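import Groth.Prelude.Def_AnCl
import Groth.Agent.Proet.ZU
import Groth.Agent.CohtopA.DimShift
import Groth.Agent.Etrest.RAcyc
import Mathlib.CategoryTheory.Sites.LocallyBijective
import Mathlib.CategoryTheory.Sites.EpiMono

/-!
# Cohomology classes on objects of a site, restriction, and vanishing of `R^q Φ_*`

For a site `(C, J)` and abelian sheaves with values in `AddCommGrpCat.{w}`, a class of degree `q` over an
object `U` is an element of `Ext^q(Z_U, F)` (`Z_U = (zF J).obj U`).

* `res g x`: restriction of a class along `g : V ⟶ U`;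
* `res_comp_ext`: compatibility with products on the right (sheaf maps, connecting maps);
* `dies_quotient`: if classes of degree `q + 1` with values in `S.X₁` die along `g` and `S.X₂` is
  injective then the classes of degree `q` with values in `S.X₃` die along `g` (`q > 0`);
* `exists_eq_mk₀`, `res_mk₀_ev`, `res_boundary_eq_zero_iff`: degree `0` classes are sections;
* `exists_cover_res_eq_zero`: classes of positive degree die locally;
* `isZero_rightDerived_push`: `R^q Φ_* G = 0` for `q > 0` if all classes of positive degree over all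
  `Φ U` die locally on `U`.
-/

set_option autoImplicit false
universe w w' v u v' u'

open CategoryTheory Category Limits Opposite Abelian

noncomputable section

namespace Groth.Agent.An.H888.ClsH

open Groth.Agent.Proet.ZU

section Res

variable {C : Type u} [Category.{v} C] [LocallySmall.{w} C] {J : GrothendieckTopology C}
  [HasSheafify J AddCommGrpCat.{w}] [HasExt.{w'} (Sheaf J AddCommGrpCat.{w})]

/-- Restriction of a class over `U` along `g : V ⟶ U`. -/
def res {U V : C} (g : V ⟶ U) {F : Sheaf J AddCommGrpCat.{w}} {q : ℕ}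
    (x : Ext.{w'} ((zF.{w} J).obj U) F q) : Ext.{w'} ((zF.{w} J).obj V) F q :=
  (Ext.mk₀ ((zF.{w} J).map g)).comp x (zero_add q)

theorem res_def {U V : C} (g : V ⟶ U) {F : Sheaf J AddCommGrpCat.{w}} {q : ℕ}
    (x : Ext.{w'} ((zF.{w} J).obj U) F q) :
    res g x = (Ext.mk₀ ((zF.{w} J).map g)).comp x (zero_add q) := rfl

@[simp] theorem res_id {U : C} {F : Sheaf J AddCommGrpCat.{w}} {q : ℕ}
    (x : Ext.{w'} ((zF.{w} J).obj U) F q) : res (𝟙 U) x = x := by
  rw [res_def, CategoryTheory.Functor.map_id, Ext.mk₀_id_comp]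

theorem res_res {U V W : C} (g : V ⟶ U) (h : W ⟶ V) {F : Sheaf J AddCommGrpCat.{w}} {q : ℕ}
    (x : Ext.{w'} ((zF.{w} J).obj U) F q) : res h (res g x) = res (h ≫ g) x := by
  rw [res_def, res_def, res_def, CategoryTheory.Functor.map_comp, Ext.mk₀_comp_mk₀_assoc]

@[simp] theorem res_zero {U V : C} (g : V ⟶ U) {F : Sheaf J AddCommGrpCat.{w}} {q : ℕ} :
    res g (0 : Ext.{w'} ((zF.{w} J).obj U) F q) = 0 :=
  Ext.comp_zero _ _ _ _ _

theorem res_add {U V : C} (g : V ⟶ U) {F : Sheaf J AddCommGrpCat.{w}} {q : ℕ}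
    (x y : Ext.{w'} ((zF.{w} J).obj U) F q) : res g (x + y) = res g x + res g y :=
  Ext.comp_add _ _ _ _

theorem res_sub {U V : C} (g : V ⟶ U) {F : Sheaf J AddCommGrpCat.{w}} {q : ℕ}
    (x y : Ext.{w'} ((zF.{w} J).obj U) F q) : res g (x - y) = res g x - res g y := by
  rw [eq_sub_iff_add_eq, ← res_add, sub_add_cancel]

/-- Restriction commutes with products on the right. -/
theorem res_comp_ext {U V : C} (g : V ⟶ U) {F G : Sheaf J AddCommGrpCat.{w}} {q r s : ℕ}
    (h : q + r = s) (x : Ext.{w'} ((zF.{w} J).obj U) F q) (y : Ext.{w'} F G r) :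
    res g (x.comp y h) = (res g x).comp y h := by
  rw [res_def, res_def, Ext.comp_assoc _ _ _ (zero_add q) h (by omega)]

theorem res_zero_of_res {U V W : C} (g : V ⟶ U) (h : W ⟶ V) {F : Sheaf J AddCommGrpCat.{w}} {q : ℕ}
    (x : Ext.{w'} ((zF.{w} J).obj U) F q) (hx : res g x = 0) : res (h ≫ g) x = 0 := by
  rw [← res_res, hx, res_zero]

theorem res_mk₀ {U V : C} (g : V ⟶ U) {F : Sheaf J AddCommGrpCat.{w}}
    (f : (zF.{w} J).obj U ⟶ F) :
    res g (Ext.mk₀ f : Ext.{w'} ((zF.{w} J).obj U) F 0) = Ext.mk₀ ((zF.{w} J).map g ≫ f) := by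
  rw [res_def, Ext.mk₀_comp_mk₀]

/-- Classes of degree `q + 1` in the quotient of an injective die where their boundary dies. -/
theorem res_eq_zero_of_boundary {S : ShortComplex (Sheaf J AddCommGrpCat.{w})} (hS : S.ShortExact)
    [Injective S.X₂] {U V : C} (g : V ⟶ U) {q : ℕ}
    (x : Ext.{w'} ((zF.{w} J).obj U) S.X₃ (q + 1))
    (h : res g (x.comp hS.extClass (rfl : q + 1 + 1 = q + 1 + 1)) = 0) : res g x = 0 := by
  rw [res_comp_ext] at h
  obtain ⟨y, hy⟩ := Ext.covariant_sequence_exact₃ _ hS (res g x) rfl h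
  rw [← hy, Ext.eq_zero_of_injective y, Ext.zero_comp]

/-- Classes of degree `0` are sections. -/
theorem exists_eq_mk₀ {U : C} {F : Sheaf J AddCommGrpCat.{w}}
    (x : Ext.{w'} ((zF.{w} J).obj U) F 0) :
    ∃ s : F.obj.obj (op U), x = Ext.mk₀ ((ev J U F).symm s) := by
  obtain ⟨f, rfl⟩ := (Ext.mk₀_bijective _ _).2 x
  exact ⟨ev J U F f, by rw [AddEquiv.symm_apply_apply]⟩

/-- Restriction of a class of degree `0` is restriction of sections. -/
theorem res_mk₀_ev {U V : C} (g : V ⟶ U) {F : Sheaf J AddCommGrpCat.{w}}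
    (s : F.obj.obj (op U)) :
    res g (Ext.mk₀ ((ev J U F).symm s) : Ext.{w'} ((zF.{w} J).obj U) F 0) =
      Ext.mk₀ ((ev J V F).symm (F.obj.map g.op s)) := by
  rw [res_mk₀, map_comp_ev_symm]

/-- Boundary of a section: it dies along `g` iff the section lifts over `V`. -/
theorem res_boundary_eq_zero_iff {S : ShortComplex (Sheaf J AddCommGrpCat.{w})} (hS : S.ShortExact)
    {U V : C} (g : V ⟶ U) (s : S.X₃.obj.obj (op U)) :
    res g ((Ext.mk₀ ((ev J U S.X₃).symm s) : Ext.{w'} ((zF.{w} J).obj U) S.X₃ 0).comp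
      hS.extClass (zero_add 1)) = 0 ↔
      ∃ t : S.X₂.obj.obj (op V), S.g.hom.app (op V) t = S.X₃.obj.map g.op s := by
  rw [res_comp_ext, res_mk₀_ev]
  constructor
  · intro h
    obtain ⟨y, hy⟩ := Ext.covariant_sequence_exact₃ _ hS _ (zero_add 1) h
    obtain ⟨t, rfl⟩ := (Ext.mk₀_bijective _ _).2 y
    rw [Ext.mk₀_comp_mk₀] at hy
    have h2 := (Ext.mk₀_bijective _ _).1 hy
    refine ⟨ev J V S.X₂ t, ?_⟩
    have h3 := congrArg (ev J V S.X₃) h2
    rwa [ev_comp, AddEquiv.apply_symm_apply] at h3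
  · rintro ⟨t, ht⟩
    rw [← ht, ← ev_symm_comp, ← Ext.mk₀_comp_mk₀, Ext.comp_assoc_of_second_deg_zero,
      ShortComplex.ShortExact.comp_extClass, Ext.comp_zero]

/-- Classes of positive degree die locally. -/
theorem exists_cover_res_eq_zero [J.WEqualsLocallyBijective AddCommGrpCat.{w}]
    [EnoughInjectives (Sheaf J AddCommGrpCat.{w})] (U : C) (q : ℕ) :
    ∀ (F : Sheaf J AddCommGrpCat.{w}) (x : Ext.{w'} ((zF.{w} J).obj U) F (q + 1)),
      ∃ S ∈ J U, ∀ ⦃V : C⦄ (g : V ⟶ U), S g → res g x = 0 := by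
  induction q with
  | zero =>
    intro F x
    obtain ⟨I, Q, i, p, w, hI, hS⟩ := CohtopA.DimShift.exists_shortExact_injective F
    obtain ⟨y, rfl⟩ := Ext.covariant_sequence_exact₁ _ hS x
      (Ext.eq_zero_of_injective (n := 0) _) (zero_add 1)
    obtain ⟨s, rfl⟩ := exists_eq_mk₀ y
    have hp : Epi p := hS.epi_g
    rw [← Sheaf.isLocallySurjective_iff_epi'] at hp
    refine ⟨_, hp.imageSieve_mem s, fun V g hg => ?_⟩
    exact (res_boundary_eq_zero_iff hS g s).2 hg
  | succ q ih =>
    intro F x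
    obtain ⟨I, Q, i, p, w, hI, hS⟩ := CohtopA.DimShift.exists_shortExact_injective F
    obtain ⟨y, rfl⟩ := Ext.covariant_sequence_exact₁ _ hS x
      (Ext.eq_zero_of_injective (n := q + 1) _) rfl
    obtain ⟨S, hS', h⟩ := ih Q y
    refine ⟨S, hS', fun V g hg => ?_⟩
    rw [res_comp_ext, h g hg, Ext.zero_comp]

end Res

section Push

variable {C : Type u} [Category.{v} C] {D : Type u'} [Category.{v'} D] [LocallySmall.{w} D]
  {J : GrothendieckTopology C} {K : GrothendieckTopology D} (Φ : C ⥤ D) [Φ.IsContinuous J K]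
  [HasSheafify J AddCommGrpCat.{w}] [HasSheafify K AddCommGrpCat.{w}]
  [J.WEqualsLocallyBijective AddCommGrpCat.{w}]
  [HasExt.{w'} (Sheaf K AddCommGrpCat.{w})]

instance sheafPushforwardContinuous_additive :
    (Φ.sheafPushforwardContinuous AddCommGrpCat.{w} J K).Additive where

/-- All classes of positive degree with values in `G` over the `Φ U` die locally on `U`. -/
def Dies (J : GrothendieckTopology C) (G : Sheaf K AddCommGrpCat.{w}) : Prop :=
  ∀ (U : C) (q : ℕ) (x : Ext.{w'} ((zF.{w} K).obj (Φ.obj U)) G (q + 1)),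
    ∃ S ∈ J U, ∀ ⦃V : C⦄ (g : V ⟶ U), S g → res (Φ.map g) x = 0

variable [EnoughInjectives (Sheaf K AddCommGrpCat.{w})]

theorem isZero_rightDerived_push [PreservesFiniteLimits
      (Φ.sheafPushforwardContinuous AddCommGrpCat.{w} J K)]
    (G : Sheaf K AddCommGrpCat.{w}) (hG : Dies.{w, w'} Φ J G)
    (q : ℕ) (hq : 0 < q) :
    IsZero (((Φ.sheafPushforwardContinuous AddCommGrpCat.{w} J K).rightDerived q).obj G) := by
  refine Groth.Agent.Etrest.RAcyc.isZero_rightDerived_of_class _ (Dies.{w, w'} Φ J) ?_ hG q hq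
  intro S hS hI hP
  refine ⟨fun U q x => ?_, ?_⟩
  · obtain ⟨T, hT, h⟩ := hP U (q + 1) (x.comp hS.extClass rfl)
    exact ⟨T, hT, fun V g hg => res_eq_zero_of_boundary hS _ x (h g hg)⟩
  · rw [← Sheaf.isLocallySurjective_iff_epi']
    constructor
    intro U s
    obtain ⟨T, hT, h⟩ := hP U 0
      ((Ext.mk₀ ((ev K (Φ.obj U) S.X₃).symm s)).comp hS.extClass (zero_add 1))
    refine J.superset_covering ?_ hT
    intro V g hg
    exact (res_boundary_eq_zero_iff hS (Φ.map g) s).1 (h g hg)

end Push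

section Cl

variable {T : Type} [TopologicalSpace T]

/-- Classes of degree `q` of `G` over an object `A` of the classical site. -/
abbrev HA (A : An.Cl T) (G : An.Cl.Ab T) (q : ℕ) : Type 1 :=
  Ext.{1} ((zF.{1} (An.Cl.topology T)).obj A) G q

/-- `T` over itself is terminal in the classical site. -/
def selfIsTerminal (T : Type) [TopologicalSpace T] : IsTerminal (An.Cl.self T) :=
  IsTerminal.ofUniqueHom (fun A => ⟨A.p, A.lh.continuous, fun _ => rfl⟩)
    (fun _ f => An.Cl.hom_ext (funext fun a => f.over a))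

/-- Classes over `T` itself are classical cohomology classes. -/
def HAself (G : An.Cl.Ab T) (q : ℕ) : HA (An.Cl.self T) G q ≃+ An.Cl.H G q :=
  Groth.Agent.Proet.ZU.HTop (selfIsTerminal T) G q

end Cl

end Groth.Agent.An.H888.ClsH
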