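import Groth.Prelude.Def_AnEps
import Groth.Agent.An.H888.ClsH
import Groth.Agent.An.H871.Basic
import Groth.Agent.EtpbcA.OverSite
import Mathlib.AlgebraicGeometry.Morphisms.FlatDescent

/-!
# Vanishing of `R^q ε_* G` from étale-local killing of classes

`isZero_epsRpush`: if for every étale `U → X` every class of positive degree of `G` over `U(ℂ)` dies,
around every complex point of `U`, after pullback to an étale `V → U`, then `R^q ε_* G = 0`, `q > 0`.
-/

set_option autoImplicit false

open CategoryTheory CategoryTheory.Limits AlgebraicGeometry Opposite CategoryTheory.Abelian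

noncomputable section

namespace Groth.Agent.An.H888.Dies

open Groth.Agent.Proet.ZU ClsH

/-- The class `x` over `U(ℂ)` dies on an étale neighbourhood of the complex point `a`. -/
def DiesAt {X : Scheme.{0}} [X.Over An.SC] [LocallyOfFiniteType (X ↘ An.SC)]
    [Fact An.EtaleLH] {U : X.Etale} {G : An.Cl.Ab (An.Pts X)} {q : ℕ}
    (x : HA ((An.eps X).obj U) G q) (a : An.Pts U.left) : Prop :=
  ∃ (V : X.Etale) (g : V ⟶ U) (b : An.Pts V.left),
    An.Pts.map (X := V.left) (Y := U.left) g.left b = a ∧ res ((An.eps X).map g) x = 0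

variable (X : Scheme.{0}) [X.Over An.SC] [LocallyOfFiniteType (X ↘ An.SC)]

set_option backward.isDefEq.respectTransparency.types false in
/-- A sieve on an étale `U → X` all of whose complex points are hit is covering. -/
theorem mem_smallEtale_of_pts {U : X.Etale} (S : Sieve U)
    (h : ∀ a : An.Pts U.left, ∃ (V : X.Etale) (g : V ⟶ U) (b : An.Pts V.left),
      An.Pts.map (X := V.left) (Y := U.left) g.left b = a ∧ S g) :
    S ∈ X.smallEtaleTopology U := by
  rw [Groth.Agent.EtpbcA.OverSite.mem_smallEtale_iff]
  let W : Set U.left := ⋃ (V : X.Etale) (g : V ⟶ U) (_ : S g), Set.range g.left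
  have hW : IsOpen W := by
    refine isOpen_iUnion fun V => isOpen_iUnion fun g => isOpen_iUnion fun _ => ?_
    have : Etale g.left := inferInstance
    exact (Scheme.Hom.isOpenMap g.left).isOpen_range
  suffices hh : W = Set.univ by
    intro x
    have hx : x ∈ W := hh ▸ Set.mem_univ x
    simp only [W, Set.mem_iUnion, Set.mem_range] at hx
    obtain ⟨V, g, hg, v, hv⟩ := hx
    exact ⟨V, g, v, hg, hv⟩
  by_contra hne
  have hne' : (Wᶜ).Nonempty := Set.nonempty_compl.2 hne
  have : LocallyOfFiniteType (U.left ↘ An.SC) := by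
    have : Etale (U.left ↘ X) := U.prop
    change LocallyOfFiniteType ((U.left ↘ X) ≫ (X ↘ An.SC))
    infer_instance
  obtain ⟨a, ha⟩ := Groth.Agent.An.H871.Basic.exists_pts_mem_of_isClosed hW.isClosed_compl hne'
  obtain ⟨V, g, b, hb, hg⟩ := h a
  apply ha
  simp only [W, Set.mem_iUnion, Set.mem_range]
  refine ⟨V, g, hg, b.pt, ?_⟩
  rw [← hb]
  exact (An.Pts.pt_map (X := V.left) (Y := U.left) g.left b).symm

variable [Fact An.EtaleLH] [An.EpsCont X]

instance : HasInjectiveResolutions (An.Cl.Ab (An.Pts X)) := inferInstance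

/-- `R^q ε_* G = 0` for `q > 0` if all classes of positive degree die étale-locally. -/
theorem isZero_epsRpush (G : An.Cl.Ab (An.Pts X))
    (h : ∀ (U : X.Etale) (q : ℕ) (x : HA ((An.eps X).obj U) G (q + 1)) (a : An.Pts U.left),
      DiesAt x a) (q : ℕ) (hq : 0 < q) : IsZero ((An.epsRpush X q).obj G) := by
  have : PreservesLimitsOfSize.{0, 0} (An.epsPush X) := (An.epsAdj X).rightAdjoint_preservesLimits
  have : PreservesFiniteLimits (An.epsPush X) := PreservesLimitsOfSize.preservesFiniteLimits _
  refine isZero_rightDerived_push (J := X.smallEtaleTopology) (An.eps X) G ?_ q hq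
  intro U q x
  let S : Sieve U :=
    { arrows := fun V g => res ((An.eps X).map g) x = 0
      downward_closed := fun {V W} g hg f => by
        rw [Functor.map_comp]
        exact res_zero_of_res _ _ _ hg }
  refine ⟨S, mem_smallEtale_of_pts X S ?_, fun V g hg => hg⟩
  intro a
  obtain ⟨V, g, b, hb, hg⟩ := h U q x a
  exact ⟨V, g, b, hb, hg⟩

end Groth.Agent.An.H888.Dies
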