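import Groth.Agent.An.H888.ClsAdj

/-!
# The two-column Leray step for local killing of classes

`ε : C ⥤ D`, `Φ : D ⥤ E` functors between sites.

* `Dies.ext`, `Dies.quot`: local killing of classes and short exact sequences.
* `dies_comp`: let `G` be a sheaf on `E` such that the classes of degree `≥ 2` of `G` over all `Φ B` die
  locally on `B`; let `0 → G → I → Q → 0` with `I` injective and `R = coker (Φ_* I → Φ_* Q)`.  If the
  classes of positive degree of `Φ_* G` and of `R` over the `ε U` die locally on `U`, then so do the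
  classes of degree `≥ 2` of `G` over the `Φ (ε U)`.
-/

set_option autoImplicit false
universe w w' v₀ u₀ v₁ u₁ v₂ u₂

open CategoryTheory Category Limits Opposite Abelian

noncomputable section

namespace Groth.Agent.An.H888.ClsLeray

open Groth.Agent.Proet.ZU ClsH ClsAdj

section One

variable {C : Type u₀} [Category.{v₀} C] {D : Type u₁} [Category.{v₁} D] [LocallySmall.{w} D]
  {I : GrothendieckTopology C} {J : GrothendieckTopology D} (ε : C ⥤ D)
  [HasSheafify J AddCommGrpCat.{w}] [HasExt.{w'} (Sheaf J AddCommGrpCat.{w})]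

/-- All classes of degree `≥ n` with values in `F` over the `ε U` die locally on `U`. -/
def DiesFrom (I : GrothendieckTopology C) (n : ℕ) (F : Sheaf J AddCommGrpCat.{w}) : Prop :=
  ∀ (U : C) (q : ℕ), n ≤ q → ∀ x : Ext.{w'} ((zF.{w} J).obj (ε.obj U)) F q,
    ∃ S ∈ I U, ∀ ⦃V : C⦄ (g : V ⟶ U), S g → res (ε.map g) x = 0

variable {ε}

theorem DiesFrom.mono {n m : ℕ} (h : n ≤ m) {F : Sheaf J AddCommGrpCat.{w}}
    (hF : DiesFrom.{w, w'} ε I n F) : DiesFrom.{w, w'} ε I m F :=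
  fun U q hq x => hF U q (h.trans hq) x

theorem DiesFrom.of_iso {n : ℕ} {F F' : Sheaf J AddCommGrpCat.{w}} (e : F ≅ F')
    (hF : DiesFrom.{w, w'} ε I n F) : DiesFrom.{w, w'} ε I n F' := by
  intro U q hq x
  obtain ⟨S, hS, h⟩ := hF U q hq (x.comp (Ext.mk₀ e.inv) (add_zero q))
  refine ⟨S, hS, fun V g hg => ?_⟩
  have h1 := h g hg
  rw [res_comp_ext] at h1
  have h2 : ((res (ε.map g) x).comp (Ext.mk₀ e.inv) (add_zero q)).comp (Ext.mk₀ e.hom)
      (add_zero q) = 0 := by rw [h1, Ext.zero_comp]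
  rw [Ext.comp_assoc_of_third_deg_zero, Ext.mk₀_comp_mk₀, e.inv_hom_id, Ext.comp_mk₀_id] at h2
  exact h2

/-- A class which dies locally after restriction to the members of a covering sieve dies locally. -/
theorem exists_sieve_trans {F : Sheaf J AddCommGrpCat.{w}} {U : C} {q : ℕ}
    (x : Ext.{w'} ((zF.{w} J).obj (ε.obj U)) F q) (S : Sieve U) (hS : S ∈ I U)
    (h : ∀ ⦃V : C⦄ (g : V ⟶ U), S g → ∃ R ∈ I V, ∀ ⦃W : C⦄ (k : W ⟶ V), R k →
      res (ε.map k) (res (ε.map g) x) = 0) :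
    ∃ S ∈ I U, ∀ ⦃V : C⦄ (g : V ⟶ U), S g → res (ε.map g) x = 0 := by
  let S' : Sieve U :=
    { arrows := fun V g => res (ε.map g) x = 0
      downward_closed := fun {V W} g hg f => by
        rw [ε.map_comp]
        exact res_zero_of_res _ _ _ hg }
  refine ⟨S', ?_, fun V g hg => hg⟩
  refine I.transitive hS S' fun V g hg => ?_
  obtain ⟨R, hR, h'⟩ := h g hg
  refine I.superset_covering ?_ hR
  intro W k hk
  change res (ε.map (k ≫ g)) x = 0
  rw [ε.map_comp, ← res_res]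
  exact h' k hk

/-- Local killing and extensions. -/
theorem DiesFrom.ext {n : ℕ} {S : ShortComplex (Sheaf J AddCommGrpCat.{w})} (hS : S.ShortExact)
    (h1 : DiesFrom.{w, w'} ε I n S.X₁) (h3 : DiesFrom.{w, w'} ε I n S.X₃) :
    DiesFrom.{w, w'} ε I n S.X₂ := by
  intro U q hq x
  obtain ⟨R, hR, h⟩ := h3 U q hq (x.comp (Ext.mk₀ S.g) (add_zero q))
  refine exists_sieve_trans x R hR fun V g hg => ?_
  have h' := h g hg
  rw [res_comp_ext] at h'
  obtain ⟨y, hy⟩ := Ext.covariant_sequence_exact₂ _ hS (res (ε.map g) x) h'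
  obtain ⟨R', hR', h''⟩ := h1 V q hq y
  refine ⟨R', hR', fun W k hk => ?_⟩
  rw [← hy, res_comp_ext, h'' k hk, Ext.zero_comp]

/-- Local killing and quotients. -/
theorem DiesFrom.quot {n : ℕ} {S : ShortComplex (Sheaf J AddCommGrpCat.{w})} (hS : S.ShortExact)
    (h1 : DiesFrom.{w, w'} ε I (n + 1) S.X₁)
    (h2 : ∀ (U : C) (q : ℕ), n ≤ q → ∀ x : Ext.{w'} ((zF.{w} J).obj (ε.obj U)) S.X₂ q, x = 0) :
    DiesFrom.{w, w'} ε I n S.X₃ := by
  intro U q hq x
  obtain ⟨R, hR, h⟩ := h1 U (q + 1) (by omega) (x.comp hS.extClass rfl)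
  refine ⟨R, hR, fun V g hg => ?_⟩
  have h' := h g hg
  rw [res_comp_ext] at h'
  obtain ⟨y, hy⟩ := Ext.covariant_sequence_exact₃ _ hS (res (ε.map g) x) rfl h'
  rw [← hy, h2 V q hq y, Ext.zero_comp]

theorem dies_iff_diesFrom [I.WEqualsLocallyBijective AddCommGrpCat.{w}] [ε.IsContinuous I J]
    [HasSheafify I AddCommGrpCat.{w}] (F : Sheaf J AddCommGrpCat.{w}) :
    Dies.{w, w'} ε I F ↔ DiesFrom.{w, w'} ε I 1 F := by
  constructor
  · intro h U q hq x
    obtain ⟨q, rfl⟩ := Nat.exists_eq_succ_of_ne_zero (Nat.one_le_iff_ne_zero.1 hq)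
    exact h U q x
  · intro h U q x
    exact h U (q + 1) (by omega) x

end One

section Two

variable {C : Type u₀} [Category.{v₀} C] {D : Type u₁} [Category.{v₁} D]
  {E : Type u₂} [Category.{v₂} E] [LocallySmall.{w} D] [LocallySmall.{w} E]
  {I : GrothendieckTopology C} {J : GrothendieckTopology D} {K : GrothendieckTopology E}
  (ε : C ⥤ D) (Φ : D ⥤ E) [Φ.IsContinuous J K]
  [HasSheafify J AddCommGrpCat.{w}] [HasSheafify K AddCommGrpCat.{w}]
  {L : Sheaf J AddCommGrpCat.{w} ⥤ Sheaf K AddCommGrpCat.{w}}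
  (adj : L ⊣ Φ.sheafPushforwardContinuous AddCommGrpCat.{w} J K)
  [L.Additive] [PreservesFiniteLimits L] [PreservesFiniteColimits L]
  [HasExt.{w'} (Sheaf J AddCommGrpCat.{w})] [HasExt.{w'} (Sheaf K AddCommGrpCat.{w})]
  [EnoughInjectives (Sheaf K AddCommGrpCat.{w})]
  [J.WEqualsLocallyBijective AddCommGrpCat.{w}]

include adj in
/-- The abstract two-column Leray step. -/
theorem diesFrom_comp (G : Sheaf K AddCommGrpCat.{w})
    (h2 : DiesFrom.{w, w'} Φ J 2 G)
    (h0 : DiesFrom.{w, w'} ε I 2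
      ((Φ.sheafPushforwardContinuous AddCommGrpCat.{w} J K).obj G))
    {S : ShortComplex (Sheaf K AddCommGrpCat.{w})} (hS : S.ShortExact) (hI : Injective S.X₂)
    (e : S.X₁ ≅ G)
    (h1 : DiesFrom.{w, w'} ε I 1
      (cokernel ((Φ.sheafPushforwardContinuous AddCommGrpCat.{w} J K).map S.g))) :
    DiesFrom.{w, w'} (ε ⋙ Φ) I 2 G := by
  let Ψ := Φ.sheafPushforwardContinuous AddCommGrpCat.{w} J K
  have hG : PreservesLimitsOfSize.{0, 0} Ψ := adj.rightAdjoint_preservesLimits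
  have : PreservesFiniteLimits Ψ := PreservesLimitsOfSize.preservesFiniteLimits _
  have hinj : Injective (Ψ.obj S.X₂) := Injective.injective_of_adjoint adj S.X₂
  -- `S.X₃` is acyclic for `Φ_*`
  have hacyc : ∀ q : ℕ, 0 < q → IsZero ((Ψ.rightDerived q).obj S.X₃) := by
    refine isZero_rightDerived_push.{w, w'} Φ S.X₃ ?_
    rw [dies_iff_diesFrom]
    exact DiesFrom.quot hS (h2.of_iso e.symm) (fun U q hq x => by
      obtain ⟨q, rfl⟩ := Nat.exists_eq_succ_of_ne_zero (Nat.one_le_iff_ne_zero.1 hq)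
      exact Ext.eq_zero_of_injective x)
  -- the kernel `K` of `Φ_* Q → R`
  have hmono : Mono (Ψ.map S.f) := by
    have := hS.mono_f
    exact inferInstance
  have hex : (ShortComplex.mk (Ψ.map S.f) (Ψ.map S.g) (by
      rw [← Ψ.map_comp, S.zero, Ψ.map_zero])).Exact :=
    hS.exact.map_of_mono_of_preservesKernel Ψ (by exact hS.mono_f) inferInstance
  let f1 : Ψ.obj S.X₂ ⟶ kernel (cokernel.π (Ψ.map S.g)) :=
    kernel.lift _ (Ψ.map S.g) (cokernel.condition _)
  have hf1 : f1 ≫ kernel.ι (cokernel.π (Ψ.map S.g)) = Ψ.map S.g := kernel.lift_ι _ _ _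
  have hepi : Epi f1 := by
    have : (ShortComplex.mk (Ψ.map S.g) (cokernel.π (Ψ.map S.g)) (cokernel.condition _)).Exact :=
      ShortComplex.exact_cokernel _
    exact this.epi_kernelLift
  have hz1 : Ψ.map S.f ≫ f1 = 0 := by
    rw [← cancel_mono (kernel.ι (cokernel.π (Ψ.map S.g))), Category.assoc, hf1, zero_comp,
      ← Ψ.map_comp, S.zero, Ψ.map_zero]
  have hS1 : (ShortComplex.mk (Ψ.map S.f) f1 hz1).ShortExact :=
    { exact := by
        let α : ShortComplex.mk (Ψ.map S.f) f1 hz1 ⟶ ShortComplex.mk (Ψ.map S.f) (Ψ.map S.g) (by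
            rw [← Ψ.map_comp, S.zero, Ψ.map_zero]) :=
          { τ₁ := 𝟙 _
            τ₂ := 𝟙 _
            τ₃ := kernel.ι _
            comm₁₂ := by rw [Category.id_comp, Category.comp_id]
            comm₂₃ := by
              change 𝟙 _ ≫ Ψ.map S.g = f1 ≫ _
              rw [Category.id_comp, hf1] }
        have : Epi α.τ₁ := by change Epi (𝟙 _); infer_instance
        have : IsIso α.τ₂ := by change IsIso (𝟙 _); infer_instance
        have : Mono α.τ₃ := by change Mono (kernel.ι _); infer_instance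
        exact (ShortComplex.exact_iff_of_epi_of_isIso_of_mono α).2 hex
      mono_f := hmono
      epi_g := hepi }
  have hS2 : (ShortComplex.mk (kernel.ι (cokernel.π (Ψ.map S.g))) (cokernel.π (Ψ.map S.g))
      (kernel.condition _)).ShortExact :=
    { exact := ShortComplex.exact_of_f_is_kernel _ (kernelIsKernel _)
      mono_f := by dsimp; infer_instance
      epi_g := by dsimp; infer_instance }
  have hK : DiesFrom.{w, w'} ε I 1 (kernel (cokernel.π (Ψ.map S.g))) :=
    DiesFrom.quot hS1 (h0.of_iso (Ψ.mapIso e.symm)) (fun U q hq x => by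
      obtain ⟨q, rfl⟩ := Nat.exists_eq_succ_of_ne_zero (Nat.one_le_iff_ne_zero.1 hq)
      exact Ext.eq_zero_of_injective x)
  have hQ : DiesFrom.{w, w'} ε I 1 (Ψ.obj S.X₃) := DiesFrom.ext hS2 hK h1
  -- conclusion
  refine DiesFrom.of_iso e ?_
  intro U q hq x
  obtain ⟨n, rfl⟩ : ∃ n, q = n + 2 := ⟨q - 2, by omega⟩
  obtain ⟨y, rfl⟩ := Ext.covariant_sequence_exact₁ _ hS x
    (Ext.eq_zero_of_injective (n := n + 1) _) (rfl : (n + 1) + 1 = n + 2)
  obtain ⟨z, rfl⟩ := (cm_bijective.{w, w'} Φ adj (ε.obj U) S.X₃ hacyc (n + 1)).2 y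
  obtain ⟨R, hR, h⟩ := hQ U (n + 1) (by omega) z
  refine ⟨R, hR, fun V g hg => ?_⟩
  rw [res_comp_ext]
  change (res (Φ.map (ε.map g)) (cm Φ adj (ε.obj U) S.X₃ (n + 1) z)).comp hS.extClass _ = 0
  rw [← cm_res, h g hg, map_zero, Ext.zero_comp]

end Two

end Groth.Agent.An.H888.ClsLeray
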