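import Groth.Prelude.Def_AnEps
import Groth.Agent.Etrest.HpullAcyc

/-!
# Leray collapse for the comparison morphism `ε`

`hcmp_bijective_of_acyclic`: if the unit `F → ε_* ε^* F` is an isomorphism and `R^q ε_* (ε^* F) = 0`
for `q > 0`, then the comparison map `H^q(X_et, F) → H^q(X(ℂ)_cl, ε^* F)` is bijective for all `q`.
-/

set_option autoImplicit false

open CategoryTheory CategoryTheory.Limits AlgebraicGeometry Opposite CategoryTheory.Abelian

namespace Groth.Agent.An.H888.Collapse

variable (X : Scheme.{0}) [X.Over An.SC] [LocallyOfFiniteType (X ↘ An.SC)]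
    [Fact An.EtaleLH] [An.EpsCont X]

/-- Degenerate Leray for `ε`: `Ext^q(Y, ε_* G) ≃ Ext^q(ε^* Y, G)` if `R^q ε_* G = 0` for `q > 0`. -/
theorem cmp_counit_bijective [PreservesFiniteLimits (An.epsPull X)] (Y : EtCoh.Ab X)
    (G : An.Cl.Ab (An.Pts X)) (h1 : ∀ q : ℕ, 0 < q → IsZero ((An.epsRpush X q).obj G)) (q : ℕ) :
    Function.Bijective (Etbase.ExtCompare.cmp (F := G) (An.epsPull X) Y
      ((An.epsAdj X).counit.app G) q) :=
  Etrest.HpullAcyc.cmp_counit_bijective (An.epsPull X) (An.epsAdj X) Y q G h1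

omit [Fact An.EtaleLH] in
theorem precomp_bijective {T : Type} [TopologicalSpace T] {Z Z' : An.Cl.Ab T} (e : Z ≅ Z')
    (G : An.Cl.Ab T) (q : ℕ) :
    Function.Bijective (fun x : Ext Z' G q => (Ext.mk₀ e.hom).comp x (zero_add q)) := by
  constructor
  · intro a b h
    have := congrArg (fun x => (Ext.mk₀ e.inv).comp x (zero_add q)) h
    simpa only [Ext.mk₀_comp_mk₀_assoc, Iso.inv_hom_id, Ext.mk₀_id_comp] using this
  · intro a
    refine ⟨(Ext.mk₀ e.inv).comp a (zero_add q), ?_⟩
    simp only [Ext.mk₀_comp_mk₀_assoc, Iso.hom_inv_id]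
    exact Ext.mk₀_id_comp _

/-- The comparison map is bijective for a sheaf `F` with `F ≅ ε_* ε^* F` and `R^q ε_* (ε^* F) = 0`,
`q > 0`. -/
theorem hcmp_bijective_of_acyclic [PreservesFiniteLimits (An.epsPull X)] (F : EtCoh.Ab X)
    (h0 : IsIso ((An.epsAdj X).unit.app F))
    (h1 : ∀ q : ℕ, 0 < q → IsZero ((An.epsRpush X q).obj ((An.epsPull X).obj F))) (q : ℕ) :
    Function.Bijective (An.Hcmp X F q) := by
  have h2 : Function.Bijective ((An.epsPull X).mapExtAddHom (EtCoh.const X ℤ) F q) :=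
    Etrest.HpullAcyc.mapExact_bijective (An.epsPull X) (An.epsAdj X) (EtCoh.const X ℤ) q F h1
  exact (precomp_bijective (An.epsPullConst X ℤ).symm _ q).comp h2

/-- The same for constant coefficients. -/
theorem hcmpConst_bijective_iff [PreservesFiniteLimits (An.epsPull X)] (M : Type) [AddCommGroup M]
    (q : ℕ) : Function.Bijective (An.HcmpConst X M q) ↔
      Function.Bijective (An.Hcmp X (EtCoh.const X M) q) := by
  have h : Function.Bijective ((An.Cl.HF (An.Pts X) q).map (An.epsPullConst X M).hom).hom :=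
    ConcreteCategory.bijective_of_isIso ((An.Cl.HF (An.Pts X) q).map (An.epsPullConst X M).hom)
  exact Function.Bijective.of_comp_iff' h _

end Groth.Agent.An.H888.Collapse
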