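import Groth.Agent.An.H888.ClsAdj
import Groth.Agent.An.H885.ClPoint
import Groth.Agent.Sga4A.OverShriek
import Mathlib.CategoryTheory.Sites.PreservesLocallyBijective
import Mathlib.CategoryTheory.Adjunction.Whiskering

/-!
# Localization of the classical site at an object

For `A : An.Cl T`: `loc A : Cl A.E ⥤ Cl T` (composition with `A.p`), `restr A : Cl.Ab T ⥤ Cl.Ab A.E`
the restriction; `restr A` is exact, has an exact left adjoint `shriek A` and preserves injectives.

* `locIso : HA B (restr A G) q ≃+ HA ((loc A).obj B) G q`, compatible with restriction (`locIso_res`)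
  and maps of sheaves (`locIso_postcomp`).
-/

set_option autoImplicit false

open CategoryTheory Category Limits Opposite Abelian Topology

noncomputable section

namespace Groth.Agent.An.H888.ClsLoc

open Groth.Agent.Proet.ZU ClsH ClsAdj Groth.Agent.An.H885.ClPoint Groth.Agent.Sga4A.OverShriek

variable {T : Type} [TopologicalSpace T] (A : An.Cl T)

/-- Composition with the structure map of `A`. -/
@[simps] def loc : An.Cl A.E ⥤ An.Cl T where
  obj B := ⟨B.E, A.p ∘ B.p, A.lh.comp B.lh⟩
  map f := ⟨f.toFun, f.continuous, fun b => congrArg A.p (f.over b)⟩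
  map_id _ := rfl
  map_comp _ _ := rfl

/-- An object over `A` as a space over `A.E`. -/
def unloc : Over A ⥤ An.Cl A.E where
  obj φ := ⟨φ.left.E, φ.hom.toFun, isLocalHomeomorph_toFun φ.hom⟩
  map g := ⟨g.left.toFun, g.left.continuous, fun d =>
    congrFun (congrArg An.Cl.Hom.toFun (Over.w g)) d⟩
  map_id _ := rfl
  map_comp _ _ := rfl

/-- A space over `A.E` as an object over `A`. -/
def toOver : An.Cl A.E ⥤ Over A where
  obj B := Over.mk (Y := (loc A).obj B) (⟨B.p, B.lh.continuous, fun _ => rfl⟩ : (loc A).obj B ⟶ A)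
  map f := Over.homMk ((loc A).map f) (An.Cl.hom_ext (funext f.over))
  map_id _ := rfl
  map_comp _ _ := rfl

/-- `(D → A) ≅ toOver (unloc (D → A))`. -/
def unitIso : 𝟭 (Over A) ≅ unloc A ⋙ toOver A :=
  NatIso.ofComponents (fun φ => Over.isoMk
    { hom := (⟨id, continuous_id, fun d => φ.hom.over d⟩ : φ.left ⟶ (loc A).obj ((unloc A).obj φ))
      inv := (⟨id, continuous_id, fun d => (φ.hom.over d).symm⟩ :
        (loc A).obj ((unloc A).obj φ) ⟶ φ.left)
      hom_inv_id := rfl
      inv_hom_id := rfl } rfl) (fun _ => rfl)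

/-- `unloc (toOver B) = B`. -/
def counitIso : toOver A ⋙ unloc A ≅ 𝟭 (An.Cl A.E) :=
  NatIso.ofComponents (fun _ =>
    { hom := ⟨id, continuous_id, fun _ => rfl⟩
      inv := ⟨id, continuous_id, fun _ => rfl⟩
      hom_inv_id := rfl
      inv_hom_id := rfl }) (fun _ => rfl)

/-- `unloc` is left adjoint to `toOver`. -/
def unlocAdj : unloc A ⊣ toOver A :=
  Adjunction.mkOfUnitCounit
    { unit := (unitIso A).hom
      counit := (counitIso A).hom
      left_triangle := rfl
      right_triangle := rfl }

theorem compatiblePreserving_loc : CompatiblePreserving (An.Cl.topology T) (loc A) where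
  compatible {F Z R x hx Y₁ Y₂ W f₁ f₂ g₁ g₂ hg₁ hg₂ h} := by
    have w : f₁ ≫ (loc A).map g₁ = f₂ ≫ (loc A).map g₂ := h
    -- the source as a space over `A.E`
    let φ₁ : W ⟶ A := f₁ ≫ ((toOver A).obj Y₁).hom
    have e₂ : f₂ ≫ ((toOver A).obj Y₂).hom = φ₁ := by
      have h1 : ((toOver A).obj Y₁).hom = (loc A).map g₁ ≫ ((toOver A).obj Z).hom :=
        (Over.w ((toOver A).map g₁)).symm
      have h2 : ((toOver A).obj Y₂).hom = (loc A).map g₂ ≫ ((toOver A).obj Z).hom :=
        (Over.w ((toOver A).map g₂)).symm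
      change _ = f₁ ≫ ((toOver A).obj Y₁).hom
      rw [h1, h2, ← Category.assoc, ← Category.assoc, w]
    let W' : An.Cl A.E := (unloc A).obj (Over.mk φ₁)
    let i : (loc A).obj W' ⟶ W := ⟨id, continuous_id, fun d => (φ₁.over d).symm⟩
    let i' : W ⟶ (loc A).obj W' := ⟨id, continuous_id, fun d => φ₁.over d⟩
    let k₁ : W' ⟶ Y₁ := ⟨f₁.toFun, f₁.continuous, fun _ => rfl⟩
    let k₂ : W' ⟶ Y₂ := ⟨f₂.toFun, f₂.continuous, fun d =>
      congrFun (congrArg An.Cl.Hom.toFun e₂) d⟩
    have hk : k₁ ≫ g₁ = k₂ ≫ g₂ := An.Cl.hom_ext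
      (congrArg An.Cl.Hom.toFun w : (f₁ ≫ (loc A).map g₁).toFun = _)
    have key := hx k₁ k₂ hg₁ hg₂ hk
    have e1 : i' ≫ (loc A).map k₁ = f₁ := rfl
    have e2 : i' ≫ (loc A).map k₂ = f₂ := rfl
    rw [← e1, ← e2, op_comp, op_comp, Functor.map_comp, Functor.map_comp]
    exact congrArg (F.obj.map i'.op) key

theorem coverPreserving_loc :
    CoverPreserving (An.Cl.topology A.E) (An.Cl.topology T) (loc A) where
  cover_preserve {B S} hS := by
    rw [mem_topology_iff] at hS ⊢
    intro b
    obtain ⟨B', g, b', hg, hb⟩ := hS b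
    exact ⟨(loc A).obj B', (loc A).map g, b', Sieve.image_mem_functorPushforward _ _ hg, hb⟩

instance isContinuous_loc : (loc A).IsContinuous (An.Cl.topology A.E) (An.Cl.topology T) :=
  Functor.isContinuous_of_coverPreserving (compatiblePreserving_loc A) (coverPreserving_loc A)

instance isCocontinuous_loc : (loc A).IsCocontinuous (An.Cl.topology A.E) (An.Cl.topology T) where
  cover_lift {B S} hS := by
    rw [mem_topology_iff] at hS ⊢
    intro b
    obtain ⟨D, g, d, hg, hd⟩ := hS b
    let D' : An.Cl A.E := ⟨D.E, B.p ∘ g.toFun, B.lh.comp (isLocalHomeomorph_toFun g)⟩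
    let g' : D' ⟶ B := ⟨g.toFun, g.continuous, fun _ => rfl⟩
    refine ⟨D', g', d, ?_, hd⟩
    let i : (loc A).obj D' ⟶ D := ⟨id, continuous_id, fun d => (g.over d).symm⟩
    exact S.downward_closed hg i

/-- Restriction of sheaves on the classical site of `T` to the space `A.E`. -/
abbrev restr : An.Cl.Ab T ⥤ An.Cl.Ab A.E :=
  (loc A).sheafPushforwardContinuous AddCommGrpCat.{1} (An.Cl.topology A.E) (An.Cl.topology T)

/-- Extension by zero of presheaves. -/
def preShriek : ((An.Cl A.E)ᵒᵖ ⥤ AddCommGrpCat.{1}) ⥤ ((An.Cl T)ᵒᵖ ⥤ AddCommGrpCat.{1}) :=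
  (Functor.whiskeringLeft _ _ _).obj (unloc A).op ⋙ jPsh A AddCommGrpCat.{1}

/-- `preShriek` is left adjoint to restriction of presheaves. -/
def preShriekAdj : preShriek A ⊣
    (Functor.whiskeringLeft _ _ AddCommGrpCat.{1}).obj (loc A).op :=
  (((unlocAdj A).op.whiskerLeft AddCommGrpCat.{1})).comp (jPshAdj A (A := AddCommGrpCat.{1}))

/-- Extension by zero of sheaves. -/
def shriek : An.Cl.Ab A.E ⥤ An.Cl.Ab T :=
  sheafToPresheaf _ _ ⋙ preShriek A ⋙ presheafToSheaf _ _

/-- Extension by zero is left adjoint to restriction. -/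
def shriekAdj : shriek A ⊣ restr A :=
  ((preShriekAdj A).comp
    (sheafificationAdjunction (An.Cl.topology T) AddCommGrpCat.{1})).restrictFullyFaithful
    (fullyFaithfulSheafToPresheaf (An.Cl.topology A.E) AddCommGrpCat.{1})
    (Functor.FullyFaithful.id _) (Iso.refl _) (Iso.refl _)

/-- An additive functor preserving finite colimits and monomorphisms is exact. -/
theorem preservesFiniteLimits_of_mono {A B : Type*} [Category* A] [Category* B] [Abelian A]
    [Abelian B] (F : A ⥤ B) [F.Additive] [PreservesFiniteColimits F] [F.PreservesMonomorphisms] :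
    PreservesFiniteLimits F := by
  have h := (Functor.exact_tfae F).out 0 3
  refine (h.1 ?_).1
  intro S hS
  have h1 := (Functor.preservesFiniteColimits_tfae F).out 0 3
  have h2 := h1.2 inferInstance S hS
  have := hS.mono_f
  exact { exact := h2.1
          mono_f := inferInstanceAs (Mono (F.map S.f))
          epi_g := h2.2 }

instance shriek_additive : (shriek A).Additive := (shriekAdj A).left_adjoint_additive

instance shriek_preservesFiniteColimits : PreservesFiniteColimits (shriek A) :=
  have : PreservesColimitsOfSize.{0, 0} (shriek A) := (shriekAdj A).leftAdjoint_preservesColimits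
  PreservesColimitsOfSize.preservesFiniteColimits _

instance whisker_preservesMonomorphisms :
    ((Functor.whiskeringLeft _ _ AddCommGrpCat.{1}).obj (unloc A).op).PreservesMonomorphisms where
  preserves {P Q} α hα := by
    rw [NatTrans.mono_iff_mono_app] at hα ⊢
    intro U
    exact hα _

instance preShriek_preservesMonomorphisms : (preShriek A).PreservesMonomorphisms := by
  have h0 : AB4OfSize.{0} AddCommGrpCat.{1} := AB4OfSize_shrink.{0, 1} _
  have h1 : (jPsh A AddCommGrpCat.{1}).PreservesMonomorphisms :=
    jPsh_preservesMonomorphisms A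
  exact Functor.preservesMonomorphisms_comp _ _

instance shriek_preservesMonomorphisms : (shriek A).PreservesMonomorphisms := by
  have h1 : (sheafToPresheaf (An.Cl.topology A.E) AddCommGrpCat.{1}).PreservesMonomorphisms :=
    inferInstance
  have h2 : (presheafToSheaf (An.Cl.topology T) AddCommGrpCat.{1}).PreservesMonomorphisms :=
    inferInstance
  have h3 : (preShriek A ⋙ presheafToSheaf (An.Cl.topology T)
    AddCommGrpCat.{1}).PreservesMonomorphisms := Functor.preservesMonomorphisms_comp _ _
  exact Functor.preservesMonomorphisms_comp _ _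

instance shriek_preservesFiniteLimits : PreservesFiniteLimits (shriek A) :=
  preservesFiniteLimits_of_mono _

instance restr_additive : (restr A).Additive where

instance restr_preservesFiniteLimits : PreservesFiniteLimits (restr A) :=
  have : PreservesLimitsOfSize.{0, 0} (restr A) := (shriekAdj A).rightAdjoint_preservesLimits
  PreservesLimitsOfSize.preservesFiniteLimits _

instance restr_preservesEpimorphisms : (restr A).PreservesEpimorphisms where
  preserves {F G} f hf := by
    rw [← Sheaf.isLocallySurjective_iff_epi'] at hf ⊢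
    exact Presheaf.isLocallySurjective_whisker (An.Cl.topology A.E) (An.Cl.topology T) (loc A)
      f.hom

/-- Restriction is exact. -/
theorem restr_map_shortExact {S : ShortComplex (An.Cl.Ab T)} (hS : S.ShortExact) :
    (S.map (restr A)).ShortExact := by
  have := hS.mono_f
  have := hS.epi_g
  have h1 := (Functor.preservesFiniteLimits_tfae (restr A)).out 0 3
  have h2 := h1.2 inferInstance S hS
  exact { exact := h2.1
          mono_f := h2.2
          epi_g := inferInstanceAs (Epi ((restr A).map S.g)) }

instance restr_preservesFiniteColimits : PreservesFiniteColimits (restr A) := by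
  have h := (Functor.exact_tfae (restr A)).out 0 3
  exact (h.1 fun S hS => restr_map_shortExact A hS).2

/-- Restriction preserves injectives. -/
theorem restr_injective (I : An.Cl.Ab T) [Injective I] : Injective ((restr A).obj I) :=
  Injective.injective_of_adjoint (shriekAdj A) I

/-- Classes over `B → A.E` with values in the restriction are classes over `B → T`. -/
def locIso (B : An.Cl A.E) (G : An.Cl.Ab T) (q : ℕ) :
    HA B ((restr A).obj G) q ≃+ HA ((loc A).obj B) G q :=
  AddEquiv.ofBijective (cm.{1, 1} (loc A) (shriekAdj A) B G q)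
    (cm_bijective_of_exact (loc A) (shriekAdj A) B G
      (fun _ _ f _ => inferInstanceAs (Epi ((restr A).map f))) q)

theorem locIso_res {B B' : An.Cl A.E} (g : B' ⟶ B) (G : An.Cl.Ab T) (q : ℕ)
    (x : HA B ((restr A).obj G) q) :
    locIso A B' G q (res g x) = res ((loc A).map g) (locIso A B G q x) :=
  cm_res (loc A) (shriekAdj A) g G q x

theorem locIso_postcomp (B : An.Cl A.E) {F G : An.Cl.Ab T} (f : F ⟶ G) (q : ℕ)
    (x : HA B ((restr A).obj F) q) :
    locIso A B G q (x.comp (Ext.mk₀ ((restr A).map f)) (add_zero q)) =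
      (locIso A B F q x).comp (Ext.mk₀ f) (add_zero q) :=
  cm_postcomp (loc A) (shriekAdj A) B f q x

theorem locIso_extClass (B : An.Cl A.E) {S : ShortComplex (An.Cl.Ab T)} (hS : S.ShortExact) (q : ℕ)
    (x : HA B ((restr A).obj S.X₃) q) :
    locIso A B S.X₁ (q + 1) (x.comp (restr_map_shortExact A hS).extClass rfl) =
      (locIso A B S.X₃ q x).comp hS.extClass rfl :=
  cm_extClass (loc A) (shriekAdj A) B hS (restr_map_shortExact A hS) q x

end Groth.Agent.An.H888.ClsLoc
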