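import Groth.Agent.An.H888.ClsLeray
import Groth.Agent.An.H884.ClBC
import Groth.Agent.An.H885.ClConst
import Mathlib.Algebra.Group.Shrink

/-!
# Local constancy of `R^0 h_* G` and `R^1 h_* G` from the cohomology of small tubes

`IsGood h G s`: near `s` there is a basis of opens `V` for which `H^j(h⁻¹ V, G)` vanishes for `j ≥ 2`, is
finite and independent of `V` for `j ≤ 1`.
-/

set_option autoImplicit false

open CategoryTheory Category Limits Opposite Abelian TopologicalSpace Topology An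

noncomputable section

namespace Groth.Agent.An.H888.ClsLC

open Groth.Agent.Proet.ZU ClsH ClsAdj ClsLeray Groth.Agent.An.H884.ClBC
open Groth.Agent.An.H885 (ClPoint.res ClPoint.mem_topology_iff)
open Groth.Agent.An.H885.ClConst

variable {T S : Type} [TopologicalSpace T] [TopologicalSpace S] (h : C(T, S))

/-- `h⁻¹ V` as an object of the classical site of `T`. -/
abbrev pre (V : Opens S) : Cl T := (opensToCl T).obj (Opens.comap h V)

theorem comap_le {V W : Opens S} (e : V ≤ W) : Opens.comap h V ≤ Opens.comap h W :=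
  fun _ hx => e hx

/-- The inclusion `h⁻¹ V ⟶ h⁻¹ W`. -/
abbrev preMap {V W : Opens S} (e : V ≤ W) : pre h V ⟶ pre h W :=
  (opensToCl T).map (homOfLE (comap_le h e))

/-- Near `s` there is a basis of opens `V` such that `H^j(h⁻¹ V, G)` vanishes for `j ≥ 2`, is finite and
does not depend on `V` for `j ≤ 1`. -/
def IsGood (G : Cl.Ab T) (s : S) : Prop :=
  ∃ V₀ : Opens S, s ∈ V₀ ∧ ∃ 𝔅 : Set (Opens S), V₀ ∈ 𝔅 ∧ (∀ V ∈ 𝔅, V ≤ V₀) ∧
    (∀ s' ∈ V₀, ∀ N : Opens S, s' ∈ N → ∃ V ∈ 𝔅, s' ∈ V ∧ V ≤ N) ∧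
    (∀ V ∈ 𝔅, ∀ j, 2 ≤ j → Subsingleton (HA (pre h V) G j)) ∧
    (∀ j, j ≤ 1 → Finite (HA (pre h V₀) G j)) ∧
    ∀ V ∈ 𝔅, ∀ (e : V ≤ V₀) (j), j ≤ 1 →
      Function.Bijective (fun x : HA (pre h V₀) G j => res (preMap h e) x)

theorem mem_of_bcObj (V : Opens S) (q : (bcObj h ((opensToCl S).obj V)).E) : h q.1.1 ∈ V := by
  rw [q.2]
  exact q.1.2.2

/-- `h⁻¹` of the object `V` is `pre h V`. -/
def preIso (V : Opens S) : (clBC h).obj ((opensToCl S).obj V) ≅ pre h V where
  hom := ⟨fun q => ⟨q.1.1, mem_of_bcObj h V q⟩,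
    Continuous.subtype_mk (continuous_fst.comp continuous_subtype_val) (mem_of_bcObj h V),
    fun _ => rfl⟩
  inv := ⟨fun t => ⟨(t.1, ⟨h t.1, t.2⟩), rfl⟩, Continuous.subtype_mk (continuous_subtype_val.prodMk
    (Continuous.subtype_mk (h.continuous.comp continuous_subtype_val) _)) _, fun _ => rfl⟩
  hom_inv_id := by
    ext q
    exact Subtype.ext (Prod.ext rfl (Subtype.ext q.2))
  inv_hom_id := rfl

theorem preIso_naturality {V W : Opens S} (e : V ≤ W) :
    (clBC h).map ((opensToCl S).map (homOfLE e)) ≫ (preIso h W).hom =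
      (preIso h V).hom ≫ preMap h e := rfl

/-- A local section of an object of the classical site. -/
theorem exists_section (B : Cl S) (b : B.E) : ∃ (N : Opens S) (hN : B.p b ∈ N)
    (σ : (opensToCl S).obj N ⟶ B), σ.toFun ⟨B.p b, hN⟩ = b := by
  obtain ⟨e, he, h1⟩ := B.lh b
  refine ⟨⟨e.target, e.open_target⟩, ?_, ⟨fun x => e.symm x.1, ?_, ?_⟩, ?_⟩
  · rw [h1]
    exact e.map_source he
  · exact e.continuousOn_symm.comp_continuous continuous_subtype_val (fun x => x.2)
  · intro x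
    change B.p (e.symm x.1) = x.1
    rw [h1]
    exact e.right_inv x.2
  · change e.symm (B.p b) = b
    rw [h1]
    exact e.left_inv he

/-- Maps to an open subset are unique. -/
theorem hom_ext_open {B : Cl S} {V : Opens S} (f g : B ⟶ (opensToCl S).obj V) : f = g := by
  ext b
  exact Subtype.ext ((f.over b).trans (g.over b).symm)

section Core

variable (P : Cl S → Type 1) [∀ B, AddCommGroup (P B)] (r : ∀ {A B : Cl S} (_ : B ⟶ A), P A →+ P B)
  (R : Cl.Ab S) (θ : ∀ B, P B →+ Cl.sect R B)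

/-- A sheaf locally isomorphic to a presheaf which is constant on a basis is locally constant. -/
theorem isConstVia_of_presheaf
    (hr : ∀ {A B D : Cl S} (g : B ⟶ A) (k : D ⟶ B) (x : P A), r (k ≫ g) x = r k (r g x))
    (hθ : ∀ {A B : Cl S} (g : B ⟶ A) (x : P A), θ B (r g x) = ClPoint.res R g (θ A x))
    (hinj : ∀ (B : Cl S) (x : P B), θ B x = 0 → ∀ b : B.E, ∃ (D : Cl S) (k : D ⟶ B) (d : D.E),
      k.toFun d = b ∧ r k x = 0)
    (hsurj : ∀ (B : Cl S) (y : Cl.sect R B) (b : B.E), ∃ (D : Cl S) (k : D ⟶ B) (d : D.E) (x : P D),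
      k.toFun d = b ∧ θ D x = ClPoint.res R k y)
    (V₀ : Opens S) (𝔅 : Set (Opens S)) (hle : ∀ V ∈ 𝔅, V ≤ V₀)
    (hB : ∀ s' ∈ V₀, ∀ N : Opens S, s' ∈ N → ∃ V ∈ 𝔅, s' ∈ V ∧ V ≤ N)
    (hbij : ∀ V ∈ 𝔅, ∀ e : V ≤ V₀,
      Function.Bijective (r ((opensToCl S).map (homOfLE e)) : P _ → P _)) :
    IsConstVia R ((opensToCl S).obj V₀) (θ ((opensToCl S).obj V₀)) := by
  -- refinement of an object mapping to `V₀` by a member of the basis
  have key : ∀ (D : Cl S) (g : D ⟶ (opensToCl S).obj V₀) (d : D.E), ∃ (V : Opens S) (_ : V ∈ 𝔅)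
      (hd : D.p d ∈ V) (σ : (opensToCl S).obj V ⟶ D), σ.toFun ⟨D.p d, hd⟩ = d := by
    intro D g d
    obtain ⟨N, hN, σ, hσ⟩ := exists_section D d
    have h0 : D.p d ∈ V₀ := by
      have : D.p d = (g.toFun d).1 := (g.over d).symm
      rw [this]
      exact (g.toFun d).2
    obtain ⟨V, hV, hdV, hVN⟩ := hB _ h0 N hN
    exact ⟨V, hV, hdV, (opensToCl S).map (homOfLE hVN) ≫ σ, hσ⟩
  constructor
  · intro B g b m hm
    rw [← hθ] at hm
    obtain ⟨D, k, d, hd, hx⟩ := hinj B _ hm b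
    obtain ⟨V, hV, hdV, σ, hσ⟩ := key D (k ≫ g) d
    have h1 : r ((opensToCl S).map (homOfLE (hle V hV))) m = 0 := by
      rw [hom_ext_open ((opensToCl S).map (homOfLE (hle V hV))) (σ ≫ k ≫ g), hr, hr, hx, map_zero]
    exact (hbij V hV (hle V hV)).1 (h1.trans (map_zero _).symm)
  · intro B g b y
    obtain ⟨D, k, d, x, hd, hx⟩ := hsurj B y b
    obtain ⟨V, hV, hdV, σ, hσ⟩ := key D (k ≫ g) d
    obtain ⟨m, hm⟩ := (hbij V hV (hle V hV)).2 (r σ x)
    refine ⟨_, σ ≫ k, ⟨D.p d, hdV⟩, m, ?_, ?_⟩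
    · change k.toFun (σ.toFun ⟨D.p d, hdV⟩) = b
      rw [hσ, hd]
    · rw [Groth.Agent.An.H885.ClPoint.res_comp, ← hx, ← hθ, ← hm, hθ]
      congr 1
      exact congrArg (fun f => ClPoint.res R f) (hom_ext_open _ _)

end Core

/-- Restriction of classes on tubes, as an additive map. -/
def resHom {A B : Cl T} (g : B ⟶ A) (G : Cl.Ab T) (q : ℕ) : HA A G q →+ HA B G q :=
  AddMonoidHom.mk' (fun x => res g x) (res_add g)

@[simp] theorem resHom_apply {A B : Cl T} (g : B ⟶ A) (G : Cl.Ab T) (q : ℕ) (x : HA A G q) :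
    resHom g G q x = res g x := rfl

/-- Restriction of classes along an isomorphism is bijective. -/
theorem res_iso_bijective {A B : Cl T} (e : B ≅ A) (G : Cl.Ab T) (q : ℕ) :
    Function.Bijective (fun x : HA A G q => res e.hom x) := by
  refine Function.bijective_iff_has_inverse.2 ⟨fun x => res e.inv x, fun x => ?_, fun x => ?_⟩
  · change res e.inv (res e.hom x) = x
    rw [res_res, e.inv_hom_id, res_id]
  · change res e.hom (res e.inv x) = x
    rw [res_res, e.hom_inv_id, res_id]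

theorem bijective_clBC_of_bijective_pre (G : Cl.Ab T) (q : ℕ) {V W : Opens S} (e : V ≤ W)
    (H : Function.Bijective (fun x : HA (pre h W) G q => res (preMap h e) x)) :
    Function.Bijective (resHom ((clBC h).map ((opensToCl S).map (homOfLE e))) G q) := by
  have h1 := res_iso_bijective (preIso h V) G q
  have h2 := res_iso_bijective (preIso h W) G q
  have h3 : (resHom ((clBC h).map ((opensToCl S).map (homOfLE e))) G q : _ → _) ∘
      (fun x : HA (pre h W) G q => res (preIso h W).hom x) =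
      (fun x : HA (pre h V) G q => res (preIso h V).hom x) ∘
        (fun x : HA (pre h W) G q => res (preMap h e) x) := by
    funext x
    simp only [Function.comp_apply, resHom_apply, res_res]
    exact congrArg (fun g => res g x) (preIso_naturality h e)
  rw [← Function.Bijective.of_comp_iff _ h2, h3]
  exact h1.comp H

/-- Direct image of sheaves on classical sites along a continuous map. -/
abbrev pushCl : Cl.Ab T ⥤ Cl.Ab S :=
  (clBC h).sheafPushforwardContinuous AddCommGrpCat.{1} (Cl.topology S) (Cl.topology T)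

section Zero

variable (G : Cl.Ab T)

/-- Classes of degree `0` over `h⁻¹ B` are sections of `h_* G` over `B`. -/
def theta0 (B : Cl S) : HA ((clBC h).obj B) G 0 ≃+ Cl.sect ((pushCl h).obj G) B :=
  Ext.addEquiv₀.trans (ev (Cl.topology T) ((clBC h).obj B) G)

theorem theta0_mk₀ (B : Cl S) (f : (zF.{1} (Cl.topology T)).obj ((clBC h).obj B) ⟶ G) :
    theta0 h G B (Ext.mk₀ f) = ev (Cl.topology T) ((clBC h).obj B) G f := by
  change ev (Cl.topology T) ((clBC h).obj B) G (Ext.addEquiv₀ (Ext.mk₀ f)) = _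
  congr 1
  exact Ext.addEquiv₀.apply_symm_apply f

theorem theta0_res {A B : Cl S} (g : B ⟶ A) (x : HA ((clBC h).obj A) G 0) :
    theta0 h G B (resHom ((clBC h).map g) G 0 x) =
      ClPoint.res ((pushCl h).obj G) g (theta0 h G A x) := by
  obtain ⟨f, rfl⟩ := (Ext.mk₀_bijective _ _).2 x
  rw [resHom_apply, res_mk₀, theta0_mk₀, theta0_mk₀, ev_map_comp]
  rfl

/-- `h_* G` is constant near `s`. -/
theorem isConstVia_push {V₀ : Opens S} {𝔅 : Set (Opens S)} (hle : ∀ V ∈ 𝔅, V ≤ V₀)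
    (hB : ∀ s' ∈ V₀, ∀ N : Opens S, s' ∈ N → ∃ V ∈ 𝔅, s' ∈ V ∧ V ≤ N)
    (hbij : ∀ V ∈ 𝔅, ∀ (e : V ≤ V₀),
      Function.Bijective (fun x : HA (pre h V₀) G 0 => res (preMap h e) x)) :
    IsConstVia ((pushCl h).obj G) ((opensToCl S).obj V₀)
      (theta0 h G ((opensToCl S).obj V₀)).toAddMonoidHom := by
  refine isConstVia_of_presheaf (fun B => HA ((clBC h).obj B) G 0)
    (fun g => resHom ((clBC h).map g) G 0) ((pushCl h).obj G)
    (fun B => (theta0 h G B).toAddMonoidHom) ?_ ?_ ?_ ?_ V₀ 𝔅 hle hB ?_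
  · intro A B D g k x
    simp only [resHom_apply, Functor.map_comp, res_res]
  · intro A B g x
    exact theta0_res h G g x
  · intro B x hx b
    refine ⟨B, 𝟙 B, b, rfl, ?_⟩
    have : x = 0 := (AddEquiv.map_eq_zero_iff (theta0 h G B)).1 hx
    rw [this, map_zero]
  · intro B y b
    refine ⟨B, 𝟙 B, b, (theta0 h G B).symm y, rfl, ?_⟩
    rw [Groth.Agent.An.H885.ClPoint.res_id]
    exact (theta0 h G B).apply_symm_apply y
  · intro V hV e
    exact bijective_clBC_of_bijective_pre h G 0 e (hbij V hV e)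

end Zero

end Groth.Agent.An.H888.ClsLC
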