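import Groth.Agent.An.H888.ClsH
import Groth.Agent.Etbase.ExtCompare
import Groth.Agent.Cohder.RDAcyc

/-!
# Classes and direct images along a continuous functor

`Φ : D ⥤ E` a continuous functor between sites, `Φ_* = Φ.sheafPushforwardContinuous`, `adj : L ⊣ Φ_*`
with `L` exact.

* `aIso : Z_{Φ B} ≅ L Z_B`, natural in `B`;
* `cm : Ext^q(Z_B, Φ_* F) →+ Ext^q(Z_{Φ B}, F)`, natural in `B` (`cm_res`) and `F` (`cm_postcomp`),
  compatible with connecting classes (`cm_extClass`);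
* `cm_bijective`: bijective if `R^j Φ_* F = 0` for `j > 0`; `cm_bijective_of_exact`: if `Φ_*` preserves
  epimorphisms.
-/

set_option autoImplicit false
universe w w' v₁ u₁ v₂ u₂

open CategoryTheory Category Limits Opposite Abelian

noncomputable section

namespace Groth.Agent.An.H888.ClsAdj

open Groth.Agent.Proet.ZU ClsH Groth.Agent.Etbase
open Groth.Agent.Etbase.ExtCompare (cmp_naturality cmp_extClass cmp_counit_bijective)

variable {D : Type u₁} [Category.{v₁} D] {E : Type u₂} [Category.{v₂} E]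
  [LocallySmall.{w} D] [LocallySmall.{w} E]
  {J : GrothendieckTopology D} {K : GrothendieckTopology E} (Φ : D ⥤ E) [Φ.IsContinuous J K]
  [HasSheafify J AddCommGrpCat.{w}] [HasSheafify K AddCommGrpCat.{w}]
  {L : Sheaf J AddCommGrpCat.{w} ⥤ Sheaf K AddCommGrpCat.{w}}
  (adj : L ⊣ Φ.sheafPushforwardContinuous AddCommGrpCat.{w} J K)

/-- The canonical map `Z_{Φ B} ⟶ L Z_B`. -/
def aHom (B : D) : (zF.{w} K).obj (Φ.obj B) ⟶ L.obj ((zF.{w} J).obj B) :=
  (ev K (Φ.obj B) _).symm ((adj.unit.app ((zF.{w} J).obj B)).hom.app (op B) (gen J B))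

/-- The canonical map `L Z_B ⟶ Z_{Φ B}`. -/
def aInv (B : D) : L.obj ((zF.{w} J).obj B) ⟶ (zF.{w} K).obj (Φ.obj B) :=
  (adj.homEquiv _ _).symm ((ev J B
    ((Φ.sheafPushforwardContinuous AddCommGrpCat.{w} J K).obj _)).symm (gen K (Φ.obj B)))

/-- A map out of `L Z_B` is determined by a section over `Φ B`. -/
theorem ev_aHom (B : D) (F : Sheaf K AddCommGrpCat.{w}) (f : L.obj ((zF.{w} J).obj B) ⟶ F) :
    ev K (Φ.obj B) F (aHom Φ adj B ≫ f) =
      ev J B ((Φ.sheafPushforwardContinuous AddCommGrpCat.{w} J K).obj F)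
        (adj.homEquiv _ _ f) := by
  rw [aHom, ev_symm_comp, AddEquiv.apply_symm_apply, Adjunction.homEquiv_unit]
  rfl

theorem aHom_aInv (B : D) : aHom Φ adj B ≫ aInv Φ adj B = 𝟙 _ := by
  apply (ev K (Φ.obj B) _).injective
  rw [ev_aHom, aInv, Equiv.apply_symm_apply, AddEquiv.apply_symm_apply]
  rfl

theorem hom_ext_aHom (B : D) (F : Sheaf K AddCommGrpCat.{w})
    (f g : L.obj ((zF.{w} J).obj B) ⟶ F) (h : aHom Φ adj B ≫ f = aHom Φ adj B ≫ g) : f = g := by
  apply (adj.homEquiv _ _).injective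
  apply (ev J B _).injective
  rw [← ev_aHom, ← ev_aHom, h]

theorem aInv_aHom (B : D) : aInv Φ adj B ≫ aHom Φ adj B = 𝟙 _ := by
  apply hom_ext_aHom Φ adj
  rw [← Category.assoc, aHom_aInv, Category.id_comp, Category.comp_id]

/-- `Z_{Φ B} ≅ L Z_B`. -/
@[simps] def aIso (B : D) : (zF.{w} K).obj (Φ.obj B) ≅ L.obj ((zF.{w} J).obj B) where
  hom := aHom Φ adj B
  inv := aInv Φ adj B
  hom_inv_id := aHom_aInv Φ adj B
  inv_hom_id := aInv_aHom Φ adj B

theorem aHom_naturality {B B' : D} (g : B' ⟶ B) :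
    (zF.{w} K).map (Φ.map g) ≫ aHom Φ adj B = aHom Φ adj B' ≫ L.map ((zF.{w} J).map g) := by
  apply (ev K (Φ.obj B') _).injective
  rw [ev_aHom, aHom, map_comp_ev_symm, AddEquiv.apply_symm_apply, Adjunction.homEquiv_unit]
  have h1 : adj.unit.app ((zF.{w} J).obj B') ≫
      (Φ.sheafPushforwardContinuous AddCommGrpCat.{w} J K).map (L.map ((zF.{w} J).map g)) =
      (zF.{w} J).map g ≫ adj.unit.app ((zF.{w} J).obj B) := (adj.unit.naturality _).symm
  rw [h1, ev_map_comp]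
  rfl

variable [L.Additive] [PreservesFiniteLimits L] [PreservesFiniteColimits L]
  [HasExt.{w'} (Sheaf J AddCommGrpCat.{w})] [HasExt.{w'} (Sheaf K AddCommGrpCat.{w})]

/-- `Ext^q(Z_B, Φ_* F) → Ext^q(Z_{Φ B}, F)`. -/
def cm (B : D) (F : Sheaf K AddCommGrpCat.{w}) (q : ℕ) :
    Ext.{w'} ((zF.{w} J).obj B) ((Φ.sheafPushforwardContinuous AddCommGrpCat.{w} J K).obj F) q →+
      Ext.{w'} ((zF.{w} K).obj (Φ.obj B)) F q :=
  (extPrecompIso (aIso Φ adj B) F q).toAddMonoidHom.comp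
    (ExtCompare.cmp.{w', w'} L ((zF.{w} J).obj B) (adj.counit.app F) q)

theorem cm_apply (B : D) (F : Sheaf K AddCommGrpCat.{w}) (q : ℕ)
    (x : Ext.{w'} ((zF.{w} J).obj B)
      ((Φ.sheafPushforwardContinuous AddCommGrpCat.{w} J K).obj F) q) :
    cm Φ adj B F q x = (Ext.mk₀ (aHom Φ adj B)).comp
      ((x.mapExactFunctor L).comp (Ext.mk₀ (adj.counit.app F)) (add_zero q)) (zero_add q) := rfl

/-- `cm` commutes with restriction. -/
theorem cm_res {B B' : D} (g : B' ⟶ B) (F : Sheaf K AddCommGrpCat.{w}) (q : ℕ)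
    (x : Ext.{w'} ((zF.{w} J).obj B)
      ((Φ.sheafPushforwardContinuous AddCommGrpCat.{w} J K).obj F) q) :
    cm Φ adj B' F q (res g x) = res (Φ.map g) (cm Φ adj B F q x) := by
  rw [cm_apply, cm_apply, res_def, res_def, Ext.mapExactFunctor_comp, Ext.mapExactFunctor_mk₀,
    Ext.comp_assoc_of_third_deg_zero, Ext.mk₀_comp_mk₀_assoc,
    Ext.mk₀_comp_mk₀_assoc, aHom_naturality]

/-- `cm` is natural in the sheaf. -/
theorem cm_postcomp (B : D) {F G : Sheaf K AddCommGrpCat.{w}} (f : F ⟶ G) (q : ℕ)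
    (x : Ext.{w'} ((zF.{w} J).obj B)
      ((Φ.sheafPushforwardContinuous AddCommGrpCat.{w} J K).obj F) q) :
    cm Φ adj B G q (x.comp (Ext.mk₀ ((Φ.sheafPushforwardContinuous AddCommGrpCat.{w} J K).map f))
      (add_zero q)) = (cm Φ adj B F q x).comp (Ext.mk₀ f) (add_zero q) := by
  have h := cmp_naturality.{w', w'} L ((zF.{w} J).obj B) (adj.counit.app F) (adj.counit.app G)
    ((Φ.sheafPushforwardContinuous AddCommGrpCat.{w} J K).map f) f (adj.counit.naturality f) q x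
  change (Ext.mk₀ (aHom Φ adj B)).comp (ExtCompare.cmp L ((zF.{w} J).obj B) (adj.counit.app G) q _)
    (zero_add q) = ((Ext.mk₀ (aHom Φ adj B)).comp (ExtCompare.cmp L ((zF.{w} J).obj B) (adj.counit.app F) q x)
    (zero_add q)).comp (Ext.mk₀ f) (add_zero q)
  rw [h, Ext.comp_assoc_of_third_deg_zero]

/-- `cm` is compatible with connecting classes. -/
theorem cm_extClass (B : D) {S : ShortComplex (Sheaf K AddCommGrpCat.{w})} (hS : S.ShortExact)
    (hT : (S.map (Φ.sheafPushforwardContinuous AddCommGrpCat.{w} J K)).ShortExact) (q : ℕ)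
    (x : Ext.{w'} ((zF.{w} J).obj B)
      ((Φ.sheafPushforwardContinuous AddCommGrpCat.{w} J K).obj S.X₃) q) :
    cm Φ adj B S.X₁ (q + 1) (x.comp hT.extClass rfl) =
      (cm Φ adj B S.X₃ q x).comp hS.extClass rfl := by
  have h := cmp_extClass.{w', w'} L ((zF.{w} J).obj B) hT hS (adj.counit.app S.X₁)
    (adj.counit.app S.X₂) (adj.counit.app S.X₃) (adj.counit.naturality S.f)
    (adj.counit.naturality S.g) q x
  change (Ext.mk₀ (aHom Φ adj B)).comp (ExtCompare.cmp L ((zF.{w} J).obj B) (adj.counit.app S.X₁) (q + 1) _)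
    (zero_add (q + 1)) = ((Ext.mk₀ (aHom Φ adj B)).comp
      (ExtCompare.cmp L ((zF.{w} J).obj B) (adj.counit.app S.X₃) q x) (zero_add q)).comp hS.extClass rfl
  rw [Ext.comp_assoc _ _ _ (zero_add q) rfl (by omega)]
  exact congrArg (fun z => (Ext.mk₀ (aHom Φ adj B)).comp z (zero_add (q + 1))) h

theorem cm_bijective_of_cmp (B : D) (F : Sheaf K AddCommGrpCat.{w}) (q : ℕ)
    (h : Function.Bijective (ExtCompare.cmp.{w', w'} (F := F) L ((zF.{w} J).obj B) (adj.counit.app F) q)) :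
    Function.Bijective (cm.{w, w'} Φ adj B F q) :=
  (extPrecompIso (aIso Φ adj B) F q).bijective.comp h

variable [EnoughInjectives (Sheaf K AddCommGrpCat.{w})]

/-- `cm` is bijective for a `Φ_*`-acyclic sheaf. -/
theorem cm_bijective (B : D) (F : Sheaf K AddCommGrpCat.{w})
    (hF : ∀ q : ℕ, 0 < q →
      IsZero (((Φ.sheafPushforwardContinuous AddCommGrpCat.{w} J K).rightDerived q).obj F))
    (q : ℕ) : Function.Bijective (cm.{w, w'} Φ adj B F q) := by
  refine cm_bijective_of_cmp Φ adj B F q ?_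
  have hG : PreservesLimitsOfSize.{0, 0} (Φ.sheafPushforwardContinuous AddCommGrpCat.{w} J K) :=
    adj.rightAdjoint_preservesLimits
  have : PreservesFiniteLimits (Φ.sheafPushforwardContinuous AddCommGrpCat.{w} J K) :=
    PreservesLimitsOfSize.preservesFiniteLimits _
  refine cmp_counit_bijective L adj _ (fun F => Cohder.RDAcyc.IsAcyc
    (Φ.sheafPushforwardContinuous AddCommGrpCat.{w} J K) F) ?_ q F hF
  intro F hF
  obtain ⟨S, hS, rfl, hI⟩ := Cohder.RDAcyc.exists_embedding F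
  refine ⟨S.X₂, S.X₃, S.f, S.g, S.zero, hS, hI,
    (Cohder.RDAcyc.map_shortExact _ hS (hF 1 one_pos)).epi_g,
    Cohder.RDAcyc.isAcyc_X₃ _ hS hF (Cohder.RDAcyc.isAcyc_injective _ S.X₂)⟩

/-- `cm` is bijective if `Φ_*` preserves epimorphisms. -/
theorem cm_bijective_of_exact (B : D) (F : Sheaf K AddCommGrpCat.{w})
    (hΦ : ∀ (G H : Sheaf K AddCommGrpCat.{w}) (f : G ⟶ H), Epi f →
      Epi ((Φ.sheafPushforwardContinuous AddCommGrpCat.{w} J K).map f))
    (q : ℕ) : Function.Bijective (cm.{w, w'} Φ adj B F q) := by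
  refine cm_bijective_of_cmp Φ adj B F q ?_
  refine cmp_counit_bijective L adj _ (fun _ => True) ?_ q F trivial
  intro F _
  obtain ⟨S, hS, rfl, hI⟩ := Cohder.RDAcyc.exists_embedding F
  exact ⟨S.X₂, S.X₃, S.f, S.g, S.zero, hS, hI, hΦ _ _ _ hS.epi_g, trivial⟩

end Groth.Agent.An.H888.ClsAdj
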