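import Groth.Agent.An.H888.ClsLC

/-!
# Local constancy of `coker (h_* I → h_* Q)` (`= R^1 h_* G`)
-/

set_option autoImplicit false

open CategoryTheory Category Limits Opposite Abelian TopologicalSpace Topology An

noncomputable section

namespace Groth.Agent.An.H888.ClsLC1

open Groth.Agent.Proet.ZU ClsH ClsAdj ClsLeray ClsLC Groth.Agent.An.H884.ClBC
open Groth.Agent.An.H885 (ClPoint.res ClPoint.mem_topology_iff)
open Groth.Agent.An.H885.ClConst

variable {T S : Type} [TopologicalSpace T] [TopologicalSpace S] (h : C(T, S))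

section One

variable {K : ShortComplex (Cl.Ab T)} (hK : K.ShortExact)

/-- The boundary of a section. -/
def bd (A : Cl T) : Cl.sect K.X₃ A →+ HA A K.X₁ 1 :=
  AddMonoidHom.mk' (fun s => (Ext.mk₀ ((ev (Cl.topology T) A K.X₃).symm s) :
    HA A K.X₃ 0).comp hK.extClass (zero_add 1)) (fun s t => by
      rw [map_add, Ext.mk₀_add, Ext.add_comp])

theorem bd_apply (A : Cl T) (s : Cl.sect K.X₃ A) : bd hK A s =
    (Ext.mk₀ ((ev (Cl.topology T) A K.X₃).symm s) : HA A K.X₃ 0).comp hK.extClass (zero_add 1) :=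
  rfl

theorem res_bd {A B : Cl T} (g : B ⟶ A) (s : Cl.sect K.X₃ A) :
    res g (bd hK A s) = bd hK B (ClPoint.res K.X₃ g s) := by
  rw [bd_apply, res_comp_ext, res_mk₀_ev]
  rfl

theorem bd_eq_zero_iff (A : Cl T) (s : Cl.sect K.X₃ A) :
    bd hK A s = 0 ↔ ∃ t : Cl.sect K.X₂ A, K.g.hom.app (op A) t = s := by
  have h1 := res_boundary_eq_zero_iff.{1, 1} hK (𝟙 A) s
  rw [res_id] at h1
  rw [bd_apply, h1]
  have h2 : K.X₃.obj.map (𝟙 A).op s = s := Groth.Agent.An.H885.ClPoint.res_id K.X₃ s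
  rw [h2]

theorem bd_surjective (hI : Injective K.X₂) (A : Cl T) : Function.Surjective (bd hK A) := by
  intro x
  obtain ⟨y, hy⟩ := Ext.covariant_sequence_exact₁ _ hK x
    (Ext.eq_zero_of_injective (n := 0) _) (zero_add 1)
  obtain ⟨s, rfl⟩ := exists_eq_mk₀ y
  exact ⟨s, hy⟩

/-- `coker (h_* I → h_* Q)`. -/
abbrev RR (K : ShortComplex (Cl.Ab T)) : Cl.Ab S := cokernel ((pushCl h).map K.g)

/-- The projection `Q(h⁻¹ B) → R(B)`. -/
def pi1 (K : ShortComplex (Cl.Ab T)) (B : Cl S) :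
    Cl.sect K.X₃ ((clBC h).obj B) →+ Cl.sect (RR h K) B :=
  ((cokernel.π ((pushCl h).map K.g)).hom.app (op B)).hom

theorem pi1_res (K : ShortComplex (Cl.Ab T)) {A B : Cl S} (g : B ⟶ A)
    (s : Cl.sect K.X₃ ((clBC h).obj A)) :
    pi1 h K B (ClPoint.res K.X₃ ((clBC h).map g) s) = ClPoint.res (RR h K) g (pi1 h K A s) :=
  (Groth.Agent.An.H885.ClPoint.res_naturality (cokernel.π ((pushCl h).map K.g)) g s).symm

theorem pi1_comp (K : ShortComplex (Cl.Ab T)) (B : Cl S)
    (t : Cl.sect K.X₂ ((clBC h).obj B)) :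
    pi1 h K B (K.g.hom.app (op ((clBC h).obj B)) t) = 0 := by
  have h1 := cokernel.condition ((pushCl h).map K.g)
  have h2 := congrArg (fun (φ : (pushCl h).obj K.X₂ ⟶ RR h K) => φ.hom.app (op B) t) h1
  exact h2

theorem ker_bd_le_ker_pi1 (B : Cl S) :
    (bd hK ((clBC h).obj B)).ker ≤ (pi1 h K B).ker := by
  intro s hs
  obtain ⟨t, rfl⟩ := (bd_eq_zero_iff hK _ s).1 hs
  exact pi1_comp h K B t

/-- The map `H^1(h⁻¹ B, G) → R(B)`. -/
def theta1 (hI : Injective K.X₂) (B : Cl S) :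
    HA ((clBC h).obj B) K.X₁ 1 →+ Cl.sect (RR h K) B :=
  AddMonoidHom.liftOfSurjective (bd hK ((clBC h).obj B)) (bd_surjective hK hI _)
    ⟨pi1 h K B, ker_bd_le_ker_pi1 h hK B⟩

theorem theta1_bd (hI : Injective K.X₂) (B : Cl S) (s : Cl.sect K.X₃ ((clBC h).obj B)) :
    theta1 h hK hI B (bd hK _ s) = pi1 h K B s :=
  AddMonoidHom.liftOfRightInverse_comp_apply _ _ _ _ _

theorem theta1_res (hI : Injective K.X₂) {A B : Cl S} (g : B ⟶ A)
    (x : HA ((clBC h).obj A) K.X₁ 1) :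
    theta1 h hK hI B (resHom ((clBC h).map g) K.X₁ 1 x) =
      ClPoint.res (RR h K) g (theta1 h hK hI A x) := by
  obtain ⟨s, rfl⟩ := bd_surjective hK hI _ x
  rw [resHom_apply, res_bd, theta1_bd, theta1_bd, pi1_res]

/-- Sections of the cokernel lift locally. -/
theorem exists_lift_pi1 (K : ShortComplex (Cl.Ab T)) (B : Cl S) (y : Cl.sect (RR h K) B) (b : B.E) :
    ∃ (D : Cl S) (k : D ⟶ B) (d : D.E) (s : Cl.sect K.X₃ ((clBC h).obj D)),
      k.toFun d = b ∧ pi1 h K D s = ClPoint.res (RR h K) k y := by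
  have hp : Epi (cokernel.π ((pushCl h).map K.g)) := inferInstance
  rw [← Sheaf.isLocallySurjective_iff_epi'] at hp
  have h1 := hp.imageSieve_mem y
  rw [ClPoint.mem_topology_iff] at h1
  obtain ⟨D, k, d, ⟨s, hs⟩, hd⟩ := h1 b
  exact ⟨D, k, d, s, hd, hs⟩

/-- Sections of `h_* Q` which vanish in the cokernel lift locally to `h_* I`. -/
theorem exists_lift_of_pi1_eq_zero (K : ShortComplex (Cl.Ab T)) (B : Cl S)
    (s : Cl.sect K.X₃ ((clBC h).obj B)) (hs : pi1 h K B s = 0) (b : B.E) :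
    ∃ (D : Cl S) (k : D ⟶ B) (d : D.E) (t : Cl.sect K.X₂ ((clBC h).obj D)),
      k.toFun d = b ∧ K.g.hom.app (op ((clBC h).obj D)) t =
        ClPoint.res K.X₃ ((clBC h).map k) s := by
  have hp : Epi (kernel.lift (cokernel.π ((pushCl h).map K.g)) ((pushCl h).map K.g)
      (cokernel.condition _)) :=
    (ShortComplex.exact_cokernel ((pushCl h).map K.g)).epi_kernelLift
  rw [← Sheaf.isLocallySurjective_iff_epi'] at hp
  let f : (zF.{1} (Cl.topology S)).obj B ⟶ (pushCl h).obj K.X₃ :=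
    (ev (Cl.topology S) B ((pushCl h).obj K.X₃)).symm s
  have hf : f ≫ cokernel.π ((pushCl h).map K.g) = 0 := by
    apply (ev (Cl.topology S) B _).injective
    rw [ev_comp, AddEquiv.apply_symm_apply, map_zero]
    exact hs
  let f' := kernel.lift _ f hf
  have h1 := hp.imageSieve_mem (ev (Cl.topology S) B _ f')
  rw [ClPoint.mem_topology_iff] at h1
  obtain ⟨D, k, d, ⟨t, ht⟩, hd⟩ := h1 b
  refine ⟨D, k, d, t, hd, ?_⟩
  have h2 := congrArg (fun z => (kernel.ι (cokernel.π ((pushCl h).map K.g))).hom.app (op D) z) ht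
  have h3 : (kernel.ι (cokernel.π ((pushCl h).map K.g))).hom.app (op D)
      ((kernel.lift (cokernel.π ((pushCl h).map K.g)) ((pushCl h).map K.g)
        (cokernel.condition _)).hom.app (op D) t) = K.g.hom.app (op ((clBC h).obj D)) t :=
    congrArg (fun (φ : (pushCl h).obj K.X₂ ⟶ (pushCl h).obj K.X₃) => φ.hom.app (op D) t)
      (kernel.lift_ι (cokernel.π ((pushCl h).map K.g)) ((pushCl h).map K.g)
        (cokernel.condition _))
  have h4 : (kernel.ι (cokernel.π ((pushCl h).map K.g))).hom.app (op B)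
      (ev (Cl.topology S) B _ f') = s := by
    rw [← ev_comp, kernel.lift_ι]
    exact AddEquiv.apply_symm_apply _ _
  refine h3.symm.trans (h2.trans ?_)
  refine (Groth.Agent.An.H885.ClPoint.res_naturality
    (kernel.ι (cokernel.π ((pushCl h).map K.g))) k _).symm.trans ?_
  rw [h4]
  rfl

/-- `R` is constant near `s`. -/
theorem isConstVia_RR (hI : Injective K.X₂) {V₀ : Opens S} {𝔅 : Set (Opens S)}
    (hle : ∀ V ∈ 𝔅, V ≤ V₀)
    (hB : ∀ s' ∈ V₀, ∀ N : Opens S, s' ∈ N → ∃ V ∈ 𝔅, s' ∈ V ∧ V ≤ N)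
    (hbij : ∀ V ∈ 𝔅, ∀ (e : V ≤ V₀),
      Function.Bijective (fun x : HA (pre h V₀) K.X₁ 1 => res (preMap h e) x)) :
    IsConstVia (RR h K) ((opensToCl S).obj V₀) (theta1 h hK hI ((opensToCl S).obj V₀)) := by
  refine isConstVia_of_presheaf (fun B => HA ((clBC h).obj B) K.X₁ 1)
    (fun g => resHom ((clBC h).map g) K.X₁ 1) (RR h K)
    (fun B => theta1 h hK hI B) ?_ ?_ ?_ ?_ V₀ 𝔅 hle hB ?_
  · intro A B D g k x
    simp only [resHom_apply, Functor.map_comp, res_res]
  · intro A B g x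
    exact theta1_res h hK hI g x
  · intro B x hx b
    obtain ⟨s, rfl⟩ := bd_surjective hK hI _ x
    rw [theta1_bd] at hx
    obtain ⟨D, k, d, t, hd, ht⟩ := exists_lift_of_pi1_eq_zero h K B s hx b
    refine ⟨D, k, d, hd, ?_⟩
    rw [resHom_apply, res_bd, bd_eq_zero_iff]
    exact ⟨t, ht⟩
  · intro B y b
    obtain ⟨D, k, d, s, hd, hs⟩ := exists_lift_pi1 h K B y b
    exact ⟨D, k, d, bd hK _ s, hd, (theta1_bd h hK hI D s).trans hs⟩
  · intro V hV e
    exact bijective_clBC_of_bijective_pre h K.X₁ 1 e (hbij V hV e)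

end One

/-- A finite group in a higher universe can be replaced by one in `Type`. -/
theorem isFiniteLocallyConstant_of_isConstVia {G : Cl.Ab S}
    (H : ∀ s : S, ∃ (A : Cl S) (a : A.E) (M : Type 1) (_ : AddCommGroup M) (_ : Finite M)
      (φ : M →+ Cl.sect G A), A.p a = s ∧ IsConstVia G A φ) : Cl.IsFiniteLocallyConstant G := by
  rw [isFiniteLocallyConstant_iff]
  intro s
  obtain ⟨A, a, M, _, _, φ, ha, hφ⟩ := H s
  have : Small.{0} M := inferInstance
  exact ⟨A, a, Shrink.{0} M, inferInstance, inferInstance, _, ha,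
    hφ.comp_equiv (Shrink.addEquiv (α := M))⟩

/-- `h_* G` is finite locally constant if all points are good. -/
theorem isFiniteLocallyConstant_push (G : Cl.Ab T) (H : ∀ s : S, IsGood h G s) :
    Cl.IsFiniteLocallyConstant ((pushCl h).obj G) := by
  refine isFiniteLocallyConstant_of_isConstVia fun s => ?_
  obtain ⟨V₀, hs, 𝔅, hV₀, hle, hB, h2, hfin, hbij⟩ := H s
  have : Finite (HA (pre h V₀) G 0) := hfin 0 (by omega)
  have : Finite (HA ((clBC h).obj ((opensToCl S).obj V₀)) G 0) :=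
    Finite.of_surjective _ (res_iso_bijective (preIso h V₀) G 0).2
  exact ⟨_, (⟨s, hs⟩ : V₀), _, inferInstance, this, _, rfl,
    isConstVia_push h G hle hB (fun V hV e => hbij V hV e 0 (by omega))⟩

/-- `coker (h_* I → h_* Q)` is finite locally constant if all points are good. -/
theorem isFiniteLocallyConstant_RR {K : ShortComplex (Cl.Ab T)} (hK : K.ShortExact)
    (hI : Injective K.X₂) (H : ∀ s : S, IsGood h K.X₁ s) :
    Cl.IsFiniteLocallyConstant (RR h K) := by
  refine isFiniteLocallyConstant_of_isConstVia fun s => ?_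
  obtain ⟨V₀, hs, 𝔅, hV₀, hle, hB, h2, hfin, hbij⟩ := H s
  have : Finite (HA (pre h V₀) K.X₁ 1) := hfin 1 (by omega)
  have : Finite (HA ((clBC h).obj ((opensToCl S).obj V₀)) K.X₁ 1) :=
    Finite.of_surjective _ (res_iso_bijective (preIso h V₀) K.X₁ 1).2
  exact ⟨_, (⟨s, hs⟩ : V₀), _, inferInstance, this, _, rfl,
    isConstVia_RR h hK hI hle hB (fun V hV e => hbij V hV e 1 (by omega))⟩

end Groth.Agent.An.H888.ClsLC1
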