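import Groth.Agent.An.H888.ClsLC1
import Groth.Agent.Etbase.LanFlat
import Mathlib.CategoryTheory.Sites.Pullback

/-!
# The Leray step for a map with good tubes

* `pullCl_preservesFiniteLimits`: inverse image on classical sites is exact;
* `diesFrom_tube`: if `h : T → S` has good tubes for `G`, and all classes of positive degree with finite
  locally constant coefficients on `S` die locally along `ε : C ⥤ Cl S`, then all classes of degree `≥ 2`
  of `G` over the `h⁻¹ (ε U)` die locally on `U`.
-/

set_option autoImplicit false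

open CategoryTheory Category Limits Opposite Abelian TopologicalSpace Topology An

noncomputable section

namespace Groth.Agent.An.H888.ClsTube

open Groth.Agent.Proet.ZU ClsH ClsAdj ClsLeray ClsLC ClsLC1 Groth.Agent.An.H884.ClBC

universe v u

variable {T S : Type} [TopologicalSpace T] [TopologicalSpace S] (h : C(T, S))

/-- The inverse image functor on classical sites. -/
abbrev pullCl : Cl.Ab S ⥤ Cl.Ab T :=
  (clBC h).sheafPullback AddCommGrpCat.{1} (Cl.topology S) (Cl.topology T)

/-- The adjunction `h^* ⊣ h_*`. -/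
abbrev pullPushAdj : pullCl h ⊣ pushCl h :=
  (clBC h).sheafAdjunctionContinuous AddCommGrpCat.{1} (Cl.topology S) (Cl.topology T)

instance pullCl_preservesFiniteLimits : PreservesFiniteLimits (pullCl h) := by
  have hfl : ∀ X : (Cl T)ᵒᵖ, IsFiltered (CostructuredArrow (clBC h).op X) := fun X =>
    IsFiltered.of_equivalence (structuredArrowOpEquivalence (clBC h) (unop X))
  have : ∀ X : (Cl T)ᵒᵖ, HasColimitsOfShape (CostructuredArrow (clBC h).op X)
      AddCommGrpCat.{1} := fun X => inferInstance
  have : PreservesFiniteLimits ((clBC h).op.lan :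
      (_ ⥤ AddCommGrpCat.{1}) ⥤ (Cl T)ᵒᵖ ⥤ AddCommGrpCat.{1}) :=
    Groth.Agent.Etbase.LanFlat.preservesFiniteLimits_op_lan _ _ (fun X => by
      have := hfl X
      have : HasFilteredColimitsOfSize.{0, 1} AddCommGrpCat.{1} :=
        hasFilteredColimitsOfSize_shrink.{0, 1, 1, 1}
      have : AB5OfSize.{0, 1} AddCommGrpCat.{1} := AB5OfSize_shrink.{0, 1, 1, 1} _
      exact HasExactColimitsOfShape.preservesFiniteLimits)
  exact Functor.sheafPullbackConstruction.preservesFiniteLimits _ _ _ _

instance pullCl_additive : (pullCl h).Additive := (pullPushAdj h).left_adjoint_additive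

instance pullCl_preservesFiniteColimits : PreservesFiniteColimits (pullCl h) :=
  have : PreservesColimitsOfSize.{0, 0} (pullCl h) := (pullPushAdj h).leftAdjoint_preservesColimits
  PreservesColimitsOfSize.preservesFiniteColimits _

/-- Classes of degree `≥ 2` over tubes die locally on the base. -/
theorem diesFrom_two (G : Cl.Ab T) (H : ∀ s : S, IsGood h G s) :
    DiesFrom.{1, 1} (clBC h) (Cl.topology S) 2 G := by
  intro B q hq x
  let R : Sieve B :=
    { arrows := fun V g => res ((clBC h).map g) x = 0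
      downward_closed := fun {V W} g hg f => by
        rw [Functor.map_comp]
        exact res_zero_of_res _ _ _ hg }
  refine ⟨R, ?_, fun V g hg => hg⟩
  rw [Groth.Agent.An.H885.ClPoint.mem_topology_iff]
  intro b
  obtain ⟨N, hN, σ, hσ⟩ := exists_section B b
  obtain ⟨V₀, hs, 𝔅, hV₀, hle, hB, h2, hfin, hbij⟩ := H (B.p b)
  obtain ⟨V, hV, hbV, hVN⟩ := hB _ hs N hN
  refine ⟨_, (opensToCl S).map (homOfLE hVN) ≫ σ, ⟨B.p b, hbV⟩, ?_, hσ⟩
  have h3 : Subsingleton (HA (pre h V) G q) := h2 V hV q hq
  have h4 := (res_iso_bijective (preIso h V) G q)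
  obtain ⟨y, hy⟩ := h4.2 (res ((clBC h).map ((opensToCl S).map (homOfLE hVN) ≫ σ)) x)
  change res ((clBC h).map ((opensToCl S).map (homOfLE hVN) ≫ σ)) x = 0
  rw [← hy, Subsingleton.elim y 0]
  exact res_zero _

/-- The Leray step for a map with good tubes. -/
theorem diesFrom_tube {C : Type u} [Category.{v} C] {I : GrothendieckTopology C} (ε : C ⥤ Cl S)
    (G : Cl.Ab T) (H : ∀ s : S, IsGood h G s)
    (Hε : ∀ F : Cl.Ab S, Cl.IsFiniteLocallyConstant F → DiesFrom.{1, 1} ε I 1 F) :
    DiesFrom.{1, 1} (ε ⋙ clBC h) I 2 G := by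
  obtain ⟨J, Q, i, q, w, hJ, hS⟩ := CohtopA.DimShift.exists_shortExact_injective G
  refine diesFrom_comp.{1, 1} ε (clBC h) (pullPushAdj h) G (diesFrom_two h G H)
    ((Hε _ (isFiniteLocallyConstant_push h G H)).mono (by omega)) hS hJ (Iso.refl _) ?_
  exact Hε _ (isFiniteLocallyConstant_RR h hS hJ H)

end Groth.Agent.An.H888.ClsTube
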