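import Groth.Agent.An.H888.Ob
import Groth.Agent.An.H866.T4
import Groth.Agent.An.H886.Counit
import Groth.Agent.An.H885.EpsUnit

/-!
# Classes of degree one of finite locally constant sheaves die étale-locally

`RET X` (Riemann's existence theorem for `X`) is a hypothesis.

* `exists_isConstVia`: finite locally constant sheaves on `X(ℂ)` are constant étale-locally;
* `diesTop_one`.
-/

set_option autoImplicit false

open CategoryTheory CategoryTheory.Limits AlgebraicGeometry Opposite CategoryTheory.Abelian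

noncomputable section

namespace Groth.Agent.An.H888.Deg1

open ClsH ClsLoc Dies Ob
open Groth.Agent.An.H885.ClConst
open Groth.Agent.An.H886.Algebraic (RET)
open Groth.Agent.An.H886.LocConst (isFLC_of_isFiniteLocallyConstant)

variable {X : Scheme.{0}} [X.Over An.SC] [LocallyOfFiniteType (X ↘ An.SC)] [Fact An.EtaleLH]

section const

variable [An.EpsCont X]

/-- Finite locally constant sheaves on `X(ℂ)` are constant étale-locally on `X`. -/
theorem exists_isConstVia (hR : RET X) {G : An.Cl.Ab (An.Pts X)}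
    (hG : An.Cl.IsFiniteLocallyConstant G) (a : An.Pts X) :
    ∃ (U : X.Etale) (b : An.Pts U.left) (M : Type) (_ : AddCommGroup M) (_ : Finite M)
      (φ : M →+ An.Cl.sect G ((An.eps X).obj U)), An.Pts.map (U.left ↘ X) b = a ∧
        IsConstVia G ((An.eps X).obj U) φ := by
  obtain ⟨h1, h2⟩ := Groth.Agent.An.H886.Counit.counit_of (X := X) hR (fun F hF =>
    ⟨Groth.Agent.An.H885.EpsUnit.isIso_unit X F
      (Groth.Agent.An.H885.EpsUnit.isLC_of_isFiniteLocallyConstant X F hF),
    Groth.Agent.An.H885.EpsUnit.isFiniteLocallyConstant_epsPull X F hF⟩) G hG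
  rw [EtpbcA.FLC.flc_iff] at h2
  obtain ⟨U, u, M, _, _, φ, hu, hφ⟩ := h2 a.pt
  obtain ⟨l, hl, -⟩ := Scheme.exists_fac_of_etale_of_isSepClosed (Ω := ℂ) (X := U.left) (S := X)
    U.hom a.1 u (hu.trans rfl)
  have := h1
  exact ⟨U, ⟨l, by
    change l ≫ U.hom ≫ (X ↘ An.SC) = 𝟙 _
    rw [← Category.assoc, hl]
    exact a.2⟩, M, inferInstance, inferInstance, _, Subtype.ext hl,
    (Groth.Agent.An.H885.EpsUnit.isConstVia_eta X _ hφ).map_iso
      (asIso ((An.epsAdj X).counit.app G))⟩

end const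

omit [Fact An.EtaleLH] [LocallyOfFiniteType (X ↘ An.SC)] in
theorem isAlg_of_RET (hR : RET X) (E : Type) [TopologicalSpace E] (p : E → An.Pts X)
    (hp : IsCoveringMap p) (hfin : ∀ x : An.Pts X, (p ⁻¹' {x}).Finite) :
    Groth.Agent.An.H866.AlgCov.IsAlg p :=
  Groth.Agent.An.H866.AlgCov.IsAlg.iff_fet.2 (hR E p hp hfin)

/-- A class dying on `V(ℂ)`, `V → X` étale, with the point `a` in the image. -/
theorem diesTop_of_etale {G : An.Cl.Ab (An.Pts X)} {q : ℕ}
    (x : HA (An.Cl.self (An.Pts X)) G q) (V : X.Etale) (b : An.Pts V.left)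
    (h : res (toSelf ((An.eps X).obj V)) x = 0) : DiesTop x (An.Pts.map (V.left ↘ X) b) :=
  have : Etale (V.left ↘ X) := V.prop
  ⟨V.left, inferInstance, V.left ↘ X, inferInstance, inferInstance, b, rfl, h⟩

/-- **Degree one.** -/
theorem diesTop_one
    (hR : ∀ (X : Scheme.{0}) [X.Over An.SC] [LocallyOfFiniteType (X ↘ An.SC)], RET X)
    [An.EpsCont X] {G : An.Cl.Ab (An.Pts X)}
    (hG : An.Cl.IsFiniteLocallyConstant G) (x : HA (An.Cl.self (An.Pts X)) G 1) (a : An.Pts X) :
    DiesTop x a := by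
  obtain ⟨U, b, M, _, _, φ, rfl, hφ⟩ := exists_isConstVia (hR X) hG a
  obtain ⟨A', g, hg, hfin, hsurj, hx⟩ := Groth.Agent.An.H877.Tors.exists_covering_via hφ
    (res (toSelf ((An.eps X).obj U)) x)
  have hU : Etale (U.left ↘ X) := U.prop
  have : LocallyOfFiniteType (U.left ↘ An.SC) := lft_of_etale (U.left ↘ X)
  obtain ⟨V, k, c, hk, hb⟩ := Groth.Agent.An.H866.T4.exists_etale g hsurj
    (isAlg_of_RET (hR U.left) A'.E g.toFun hg hfin)
  obtain ⟨b', rfl⟩ := hb b
  have h1 : An.Pts.map (U.left ↘ X) (An.Pts.map (X := V.left) (Y := U.left) k.left b') =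
      An.Pts.map (V.left ↘ X) b' := ((An.eps X).map k).over b'
  rw [h1]
  refine diesTop_of_etale x V b' ?_
  have h2 : res (c ≫ g) (res (toSelf ((An.eps X).obj U)) x) = 0 := by
    rw [← res_res, hx, res_zero]
  rw [← hk, res_res] at h2
  have h3 : (An.eps X).map k ≫ toSelf ((An.eps X).obj U) = toSelf ((An.eps X).obj V) :=
    hom_self_ext _ _
  rwa [h3] at h2

end Groth.Agent.An.H888.Deg1
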