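import Groth.Agent.An.H888.Deg1
import Groth.Agent.An.H888.ClsTube
import Groth.Agent.An.H890.EpsBC
import Groth.Agent.An.H416.Coord
import Groth.Agent.An.H416.Fibration
import Groth.Agent.An.H871.Imm
import Groth.Agent.S4187
import Groth.Agent.S4209

/-!
# The induction on the dimension for `R^q ε_* G = 0`

* `diesTop_zero`: dimension `0`;
* `diesTop_fib`: the fibration step;
* `diesFrom_of_diesTop`: passage to all étale schemes over the base.
-/

set_option autoImplicit false

open CategoryTheory CategoryTheory.Limits AlgebraicGeometry Opposite CategoryTheory.Abelian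
  TopologicalSpace

noncomputable section

namespace Groth.Agent.An.H888.Ind

open ClsH ClsLoc Dies Ob Deg1 ClsLeray
open Groth.Agent.An.H885.ClConst
open Groth.Agent.An.H886.Algebraic (RET)
open Groth.Agent.An.H887.SchDef
open Groth.Agent.An.H884.ClBC

variable {X : Scheme.{0}} [X.Over An.SC] [LocallyOfFiniteType (X ↘ An.SC)] [Fact An.EtaleLH]

section zero

omit [Fact An.EtaleLH] in
/-- On a one point object all classes of positive degree vanish. -/
theorem eq_zero_of_unique {T : Type} [TopologicalSpace T] {A : An.Cl T} [Subsingleton A.E]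
    (a : A.E) {G : An.Cl.Ab T} {q : ℕ} (x : HA A G (q + 1)) : x = 0 := by
  obtain ⟨S, hS, h⟩ := exists_cover_res_eq_zero.{1, 1} A q G x
  rw [Groth.Agent.An.H885.ClPoint.mem_topology_iff] at hS
  obtain ⟨B, g, b, hg, -⟩ := hS a
  let s : A ⟶ B := ⟨fun _ => b, continuous_const, fun a' => by
    rw [← g.over, Subsingleton.elim (g.toFun b) a']⟩
  have h1 := res_zero_of_res g s x (h g hg)
  have h2 : s ≫ g = 𝟙 A := An.Cl.hom_ext (funext fun a' => Subsingleton.elim _ _)
  rwa [h2, res_id] at h1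

/-- Dimension `0`. -/
theorem diesTop_zero (hX : HasCoord 0 X) {G : An.Cl.Ab (An.Pts X)} {q : ℕ}
    (x : HA (An.Cl.self (An.Pts X)) G (q + 1)) (a : An.Pts X) : DiesTop x a := by
  have h1 : DiscreteTopology (An.Pts X) := Groth.Agent.An.H416.Coord.discreteTopology_of_hasCoord_zero hX
  have h2 : DiscreteTopology X := (Groth.Agent.S4187.result X).2 h1
  let W : X.Opens := ⟨{a.pt}, isOpen_discrete _⟩
  have hr := Groth.Agent.An.H871.Imm.range_map_of_isOpenImmersion W.ι
  have ha : a ∈ Set.range (An.Pts.map W.ι) := by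
    rw [hr, Set.mem_preimage, Scheme.Opens.range_ι]
    exact Set.mem_singleton _
  obtain ⟨b, hb⟩ := ha
  refine ⟨W, inferInstance, W.ι, inferInstance, inferInstance, b, hb, ?_⟩
  have hsub : Subsingleton (ob W.ι).E := ⟨fun c d => by
    have key : ∀ c : An.Pts W, An.Pts.map W.ι c = a := fun c => by
      have h3 : An.Pts.map W.ι c ∈ An.Pts.pt ⁻¹' Set.range W.ι := hr ▸ ⟨c, rfl⟩
      rw [Set.mem_preimage, Scheme.Opens.range_ι] at h3
      exact Groth.Agent.An.H863.PtsBasic.pt_injective h3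
    have h4 : An.Pts.map W.ι c = An.Pts.map W.ι d := (key c).trans (key d).symm
    have h5 : c.1 ≫ W.ι = d.1 ≫ W.ι := congrArg Subtype.val h4
    exact Subtype.ext ((cancel_mono W.ι).1 h5)⟩
  exact eq_zero_of_unique (A := ob W.ι) b _

end zero

section points

omit [LocallyOfFiniteType (X ↘ An.SC)] [Fact An.EtaleLH] in
/-- Covering sieves of the étale site are surjective on complex points. -/
theorem exists_pts_of_mem {U : X.Etale} {R : Sieve U} (hR : R ∈ X.smallEtaleTopology U)
    (a : An.Pts U.left) : ∃ (V : X.Etale) (g : V ⟶ U) (b : An.Pts V.left), R g ∧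
      An.Pts.map (X := V.left) (Y := U.left) g.left b = a := by
  rw [Groth.Agent.EtpbcA.OverSite.mem_smallEtale_iff] at hR
  obtain ⟨V, g, v, hg, hv⟩ := hR a.pt
  have : Etale g.left := inferInstance
  obtain ⟨l, hl, -⟩ := Scheme.exists_fac_of_etale_of_isSepClosed (Ω := ℂ) (X := V.left)
    (S := U.left) g.left a.1 v (hv.trans rfl)
  refine ⟨V, g, ⟨l, ?_⟩, hg, Subtype.ext hl⟩
  rw [← comp_over (X := V.left) (Y := U.left) g.left An.SC, ← Category.assoc, hl]
  exact a.2

end points

section fib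

/-- The fibration step. -/
theorem diesTop_fib {S : Scheme.{0}} [S.Over An.SC] [LocallyOfFiniteType (S ↘ An.SC)]
    (h : X ⟶ S) [h.IsOver An.SC] {G : An.Cl.Ab (An.Pts X)}
    (H : ∀ s, ClsLC.IsGood (An.Pts.mapC h) G s)
    (Hε : ∀ F : An.Cl.Ab (An.Pts S), An.Cl.IsFiniteLocallyConstant F →
      DiesFrom.{1, 1} (An.eps S) S.smallEtaleTopology 1 F) {q : ℕ}
    (x : HA (An.Cl.self (An.Pts X)) G (q + 2)) (a : An.Pts X) : DiesTop x a := by
  obtain ⟨R, hR, hRx⟩ := ClsTube.diesFrom_tube (An.Pts.mapC h) (An.eps S) G H Hε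
    (EtCoh.top S) (q + 2) (by omega)
    (res (toSelf ((clBC (An.Pts.mapC h)).obj ((An.eps S).obj (EtCoh.top S)))) x)
  obtain ⟨V, g, b, hg, hb⟩ := exists_pts_of_mem hR
    (show An.Pts (EtCoh.top S).left from (An.epsTopIso S).inv.toFun (An.Pts.map h a))
  have h0 := hRx g hg
  have hb' : An.Pts.map h a = An.Pts.map (V.left ↘ S) b := by
    have h1 : An.Pts.map (V.left ↘ S) b =
      An.Pts.map ((EtCoh.top S).left ↘ S) (An.Pts.map (X := V.left) (Y := (EtCoh.top S).left) g.left b) :=
      (((An.eps S).map g).over b).symm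
    rw [h1, hb]
    exact ((An.epsTopIso S).inv.over (An.Pts.map h a)).symm
  let e : ((clBC (An.Pts.mapC h)).obj ((An.eps S).obj V)).E := ⟨(a, b), hb'⟩
  have h2 : An.Pts.map (((EtCoh.bc h).obj V).left ↘ X)
      ((Groth.Agent.An.H890.EpsBC.isoCl h V).inv.toFun e) = a :=
    (Groth.Agent.An.H890.EpsBC.isoCl h V).inv.over e
  rw [← h2]
  refine diesTop_of_etale x _ _ ?_
  rw [res_res] at h0
  have h3 := res_zero_of_res _ (Groth.Agent.An.H890.EpsBC.isoCl h V).hom x h0
  have h4 : (Groth.Agent.An.H890.EpsBC.isoCl h V).hom ≫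
      (An.eps S ⋙ clBC (An.Pts.mapC h)).map g ≫
        toSelf ((clBC (An.Pts.mapC h)).obj ((An.eps S).obj (EtCoh.top S))) =
      toSelf ((An.eps X).obj ((EtCoh.bc h).obj V)) := hom_self_ext _ _
  exact (congrArg (fun k => res k x) h4).symm.trans h3

/-- From `DiesTop` on all étale schemes over `S` to `DiesFrom`. -/
theorem diesFrom_of_diesTop {S : Scheme.{0}} [S.Over An.SC] [LocallyOfFiniteType (S ↘ An.SC)]
    (F : An.Cl.Ab (An.Pts S)) (H : ∀ (U : S.Etale) (_ : LocallyOfFiniteType (U.left ↘ An.SC)) (q : ℕ)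
      (x : HA (An.Cl.self (An.Pts U.left)) ((restr ((An.eps S).obj U)).obj F) (q + 1))
      (a : An.Pts U.left), DiesTop (X := U.left) x a) :
    DiesFrom.{1, 1} (An.eps S) S.smallEtaleTopology 1 F := by
  intro U q hq x
  obtain ⟨q, rfl⟩ := Nat.exists_eq_succ_of_ne_zero (Nat.one_le_iff_ne_zero.1 hq)
  let R : Sieve U :=
    { arrows := fun V g => res ((An.eps S).map g) x = 0
      downward_closed := fun {V W} g hg f => by
        rw [Functor.map_comp]
        exact res_zero_of_res _ _ _ hg }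
  refine ⟨R, mem_smallEtale_of_pts S R ?_, fun V g hg => hg⟩
  intro a
  have : Etale (U.left ↘ S) := U.prop
  have hU : LocallyOfFiniteType (U.left ↘ An.SC) := lft_of_etale (U.left ↘ S)
  obtain ⟨V, g, b, hb, hg⟩ := diesAt_of_diesTop x a (H U hU q _ a)
  exact ⟨V, g, b, hb, hg⟩

end fib

section main

omit [Fact An.EtaleLH] in
/-- Finitely generated algebras. -/
theorem lft_spec (A : Type) [CommRing A] [Algebra ℂ A] [Algebra.FiniteType ℂ A] :
    LocallyOfFiniteType (specA A ↘ An.SC) := by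
  change LocallyOfFiniteType (Spec.map _)
  rw [HasRingHomProperty.Spec_iff (P := @LocallyOfFiniteType)]
  exact RingHom.finiteType_algebraMap.2 inferInstance

/-- The tubes of the standard fibrations are good. -/
def GoodTubes : Prop :=
  ∀ (m : ℕ) (Δ : MvPolynomial (Fin m) ℂ) (D : Polynomial (Localization.Away Δ)), D.Monic →
    D.Separable → ∀ (W : Scheme.{0}) [W.Over An.SC] [LocallyOfFiniteType (W ↘ An.SC)]
      (g : W ⟶ specA (Localization.Away D)) [g.IsOver An.SC] [IsFinite g] [Etale g]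
      (G : An.Cl.Ab (An.Pts W)), An.Cl.IsFiniteLocallyConstant G →
      ∀ s, ClsLC.IsGood (An.Pts.mapC (g ≫ Groth.Agent.An.H416.Fibration.proj Δ D)) G s

/-- **The induction.** -/
theorem diesTop_of
    (hR : ∀ (X : Scheme.{0}) [X.Over An.SC] [LocallyOfFiniteType (X ↘ An.SC)], RET X)
    (hT : GoodTubes) (n : ℕ) :
    ∀ (X : Scheme.{0}) [X.Over An.SC] [LocallyOfFiniteType (X ↘ An.SC)] (_ : HasCoord n X)
      (G : An.Cl.Ab (An.Pts X)) (_ : An.Cl.IsFiniteLocallyConstant G) (q : ℕ)
      (x : HA (An.Cl.self (An.Pts X)) G (q + 1)) (a : An.Pts X), DiesTop x a := by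
  induction n with
  | zero => exact fun X _ _ hX G hG q x a => diesTop_zero hX x a
  | succ m IH =>
    intro X _ _ hX G hG q x a
    have := Groth.Agent.S4209.result X
    obtain _ | q := q
    · exact diesTop_one hR hG x a
    obtain ⟨W, haW, Δ, D, hD, hD', g, hg, hgf, hge⟩ :=
      Groth.Agent.An.H416.Fibration.exists_fibration X hX a
    have ha : a ∈ Set.range (An.Pts.map W.ι) := by
      rw [Groth.Agent.An.H871.Imm.range_map_of_isOpenImmersion W.ι, Set.mem_preimage,
        Scheme.Opens.range_ι]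
      exact haW
    obtain ⟨b, rfl⟩ := ha
    have hW : LocallyOfFiniteType (W.toScheme ↘ An.SC) := lft_of_etale W.ι
    refine DiesTop.of_etale W.ι x b ?_
    have hS : LocallyOfFiniteType (specA (Localization.Away Δ) ↘ An.SC) := lft_spec _
    have hG' : An.Cl.IsFiniteLocallyConstant (T := An.Pts W) ((restr (ob W.ι)).obj G) :=
      isFiniteLocallyConstant_restr (ob W.ι) hG
    refine diesTop_fib (X := W) (g ≫ Groth.Agent.An.H416.Fibration.proj Δ D)
      (hT m Δ D hD hD' W g _ hG') (fun F hF => ?_) _ b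
    refine diesFrom_of_diesTop F (fun U hU q x a => ?_)
    have : Etale (U.left ↘ specA (Localization.Away Δ)) := U.prop
    exact IH U.left (Groth.Agent.An.H416.Coord.HasCoord.of_etale
        (U.left ↘ specA (Localization.Away Δ)) (Groth.Agent.An.H416.Coord.hasCoord_spec Δ))
      _ (isFiniteLocallyConstant_restr ((An.eps _).obj U) hF) q x a

/-- **`R^q ε_* G = 0`.** -/
theorem isZero_epsRpush_of
    (hR : ∀ (X : Scheme.{0}) [X.Over An.SC] [LocallyOfFiniteType (X ↘ An.SC)], RET X)
    (hT : GoodTubes) [An.EpsCont X] [Smooth (X ↘ An.SC)] (G : An.Cl.Ab (An.Pts X))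
    (hG : An.Cl.IsFiniteLocallyConstant G) (q : ℕ) (hq : 0 < q) :
    IsZero ((An.epsRpush X q).obj G) := by
  refine isZero_epsRpush X G (fun U q x a => ?_) q hq
  have : Etale (U.left ↘ X) := U.prop
  have hU : LocallyOfFiniteType (U.left ↘ An.SC) := lft_of_etale (U.left ↘ X)
  have hU' : Smooth (U.left ↘ An.SC) := by
    rw [← comp_over (U.left ↘ X) An.SC]
    infer_instance
  refine diesAt_of_diesTop x a ?_
  obtain ⟨n, W, haW, hW⟩ := Groth.Agent.An.H416.Coord.exists_hasCoord U.left a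
  have ha : a ∈ Set.range (An.Pts.map W.ι) := by
    rw [Groth.Agent.An.H871.Imm.range_map_of_isOpenImmersion W.ι, Set.mem_preimage,
      Scheme.Opens.range_ι]
    exact haW
  obtain ⟨b, rfl⟩ := ha
  have hWl : LocallyOfFiniteType (W.toScheme ↘ An.SC) := lft_of_etale W.ι
  refine DiesTop.of_etale W.ι _ b ?_
  exact diesTop_of hR hT n W hW _ (isFiniteLocallyConstant_restr (ob W.ι)
    (isFiniteLocallyConstant_restr ((An.eps X).obj U) hG)) q _ b

end main

end Groth.Agent.An.H888.Ind
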