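import Groth.Agent.An.H888.Dies
import Groth.Agent.An.H888.ClsLoc
import Groth.Agent.An.H888.ClsLC1

/-!
# Étale-local killing of classes, without the small étale site

`ob f`: the object `Y(ℂ) → X(ℂ)` for an étale `f : Y ⟶ X` over `ℂ`; `DiesTop x a`: the class `x` on `X(ℂ)`
dies on an étale neighbourhood of the complex point `a`.

* `DiesTop.of_etale`: one can localize on `X`;
* `diesAt_of_diesTop`: reduction of `DiesAt` over `U → X` to `DiesTop` for `U`;
* `isFiniteLocallyConstant_restr`.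
-/

set_option autoImplicit false

open CategoryTheory CategoryTheory.Limits AlgebraicGeometry Opposite CategoryTheory.Abelian

noncomputable section

namespace Groth.Agent.An.H888.Ob

open ClsH ClsLoc Dies
open Groth.Agent.An.H885.ClConst
open Groth.Agent.An.H885 (ClPoint.res ClPoint.mem_topology_iff)

section top

variable {T : Type} [TopologicalSpace T]

/-- The map to the terminal object. -/
def toSelf (A : An.Cl T) : A ⟶ An.Cl.self T := ⟨A.p, A.lh.continuous, fun _ => rfl⟩

theorem hom_self_ext {A : An.Cl T} (f g : A ⟶ An.Cl.self T) : f = g :=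
  An.Cl.hom_ext (funext fun a => (f.over a).trans (g.over a).symm)

/-- `A.E` as an object over `A`. -/
def locSelf (A : An.Cl T) : (loc A).obj (An.Cl.self A.E) ⟶ A := ⟨id, continuous_id, fun _ => rfl⟩

variable {G : An.Cl.Ab T} {q : ℕ}

/-- A class over `A` as a global class on `A.E`. -/
def loc1 (A : An.Cl T) (x : HA A G q) : HA (An.Cl.self A.E) ((restr A).obj G) q :=
  (locIso A (An.Cl.self A.E) G q).symm (res (locSelf A) x)

theorem locIso_loc1 (A : An.Cl T) (x : HA A G q) :
    locIso A (An.Cl.self A.E) G q (loc1 A x) = res (locSelf A) x :=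
  (locIso A (An.Cl.self A.E) G q).apply_symm_apply _

theorem res_loc1_eq_zero_iff (A : An.Cl T) (x : HA A G q) (B : An.Cl A.E) :
    res (toSelf B) (loc1 A x) = 0 ↔ res ((loc A).map (toSelf B) ≫ locSelf A) x = 0 := by
  rw [← res_res, ← locIso_loc1, ← locIso_res]
  exact (map_eq_zero_iff _ (locIso A B G q).injective).symm

/-- Restriction preserves finite locally constant sheaves. -/
theorem isFiniteLocallyConstant_restr (A : An.Cl T) (hG : An.Cl.IsFiniteLocallyConstant G) :
    An.Cl.IsFiniteLocallyConstant ((restr A).obj G) := by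
  rw [isFiniteLocallyConstant_iff] at hG ⊢
  intro e
  obtain ⟨B, b, M, _, _, φ, hb, hφ⟩ := hG (A.p e)
  obtain ⟨W, hW, hbW, hemb⟩ : ∃ (W : Set B.E) (hW : IsOpen W), b ∈ W ∧
      Topology.IsOpenEmbedding (An.Cl.restrictOpenι B W hW ≫ toSelf B).toFun := by
    obtain ⟨e, ha, he⟩ := B.lh b
    refine ⟨e.source, e.open_source, ha, ?_⟩
    have h := e.isOpenEmbedding_restrict
    have h2 : (An.Cl.restrictOpenι B e.source e.open_source ≫ toSelf B).toFun =
        e.source.domRestrict e := by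
      funext x
      change B.p x.1 = e x.1
      rw [he]
    rw [h2]
    exact h
  let k := An.Cl.restrictOpenι A ((toSelf A).toFun ⁻¹'
    Set.range (An.Cl.restrictOpenι B W hW ≫ toSelf B).toFun)
    ((hemb.isOpen_range).preimage (toSelf A).continuous)
  let l := An.Cl.liftThrough (toSelf A) _ hemb ≫ An.Cl.restrictOpenι B W hW
  let e' : ((toSelf A).toFun ⁻¹' Set.range (An.Cl.restrictOpenι B W hW ≫ toSelf B).toFun) :=
    ⟨e, ⟨⟨b, hbW⟩, hb⟩⟩
  -- as an object of the site of `A.E`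
  let C : An.Cl A.E := ⟨((toSelf A).toFun ⁻¹' Set.range
    (An.Cl.restrictOpenι B W hW ≫ toSelf B).toFun : Set A.E), Subtype.val,
    (((hemb.isOpen_range).preimage (toSelf A).continuous)).isOpenEmbedding_subtypeVal.isLocalHomeomorph⟩
  let l' : (loc A).obj C ⟶ B := ⟨l.toFun, l.continuous, l.over⟩
  refine ⟨C, e', M, inferInstance, inferInstance, (ClPoint.res G l').comp φ, rfl, ?_, ?_⟩
  · intro D g d m hm
    exact hφ.inj _ ((loc A).map g ≫ l') d m (by
      rw [Groth.Agent.An.H885.ClPoint.res_comp]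
      exact hm)
  · intro D g d s
    obtain ⟨E, j, y, m, hy, hm⟩ := hφ.surj ((loc A).obj D) ((loc A).map g ≫ l') d s
    let E' : An.Cl A.E := ⟨E.E, D.p ∘ j.toFun,
      D.lh.comp (Groth.Agent.An.H885.ClPoint.isLocalHomeomorph_toFun j)⟩
    let i : (loc A).obj E' ⟶ E := ⟨id, continuous_id, fun x => (j.over x).symm⟩
    let j' : E' ⟶ D := ⟨j.toFun, j.continuous, fun _ => rfl⟩
    refine ⟨E', j', y, m, hy, ?_⟩
    have h1 := congrArg (ClPoint.res G i) hm
    rw [← Groth.Agent.An.H885.ClPoint.res_comp, ← Groth.Agent.An.H885.ClPoint.res_comp] at h1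
    change ClPoint.res G ((loc A).map j') s = ClPoint.res G ((loc A).map (j' ≫ g)) (ClPoint.res G l' (φ m))
    rw [← Groth.Agent.An.H885.ClPoint.res_comp]
    exact h1

end top

section schemes

variable [Fact An.EtaleLH]

section ob

variable {X Y : Scheme.{0}} [X.Over An.SC] [Y.Over An.SC] [LocallyOfFiniteType (X ↘ An.SC)]

/-- `Y(ℂ) → X(ℂ)` as an object of the classical site. -/
def ob (f : Y ⟶ X) [f.IsOver An.SC] [Etale f] : An.Cl (An.Pts X) :=
  ⟨An.Pts Y, An.Pts.map f, (Fact.out : An.EtaleLH) Y X f⟩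

omit [Fact An.EtaleLH] in
theorem lft_of_etale (f : Y ⟶ X) [f.IsOver An.SC] [Etale f] : LocallyOfFiniteType (Y ↘ An.SC) := by
  rw [← comp_over f An.SC]
  infer_instance

variable {G : An.Cl.Ab (An.Pts X)} {q : ℕ}

/-- The global class `x` dies on an étale neighbourhood of the complex point `a`. -/
def DiesTop (x : HA (An.Cl.self (An.Pts X)) G q) (a : An.Pts X) : Prop :=
  ∃ (Y : Scheme.{0}) (_ : Y.Over An.SC) (f : Y ⟶ X) (_ : f.IsOver An.SC) (_ : Etale f)
    (b : An.Pts Y), An.Pts.map f b = a ∧ res (toSelf (ob f)) x = 0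

/-- Localization of the problem. -/
theorem DiesTop.of_etale (f : Y ⟶ X) [f.IsOver An.SC] [Etale f] [LocallyOfFiniteType (Y ↘ An.SC)]
    (x : HA (An.Cl.self (An.Pts X)) G q) (b : An.Pts Y)
    (h : DiesTop (X := Y) (loc1 (ob f) (res (toSelf (ob f)) x)) b) :
    DiesTop x (An.Pts.map f b) := by
  obtain ⟨Z, iZ, g, _, _, c, hc, hx⟩ := h
  refine ⟨Z, iZ, g ≫ f, inferInstance, inferInstance, c, ?_, ?_⟩
  · rw [← hc]
    exact Subtype.ext (Category.assoc _ _ _).symm
  · have hx := (res_loc1_eq_zero_iff (ob f) (res (toSelf (ob f)) x) (ob g)).1 hx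
    rw [res_res] at hx
    let i : ob (g ≫ f) ⟶ (loc (ob f)).obj (ob g) :=
      ⟨id, continuous_id, fun a => Subtype.ext (Category.assoc _ _ _)⟩
    have h2 := res_zero_of_res _ i _ hx
    rwa [hom_self_ext (i ≫ _) (toSelf (ob (g ≫ f)))] at h2

end ob

/-- Reduction of `DiesAt` to `DiesTop`. -/
theorem diesAt_of_diesTop {X : Scheme.{0}} [X.Over An.SC] [LocallyOfFiniteType (X ↘ An.SC)]
    {U : X.Etale} [LocallyOfFiniteType (U.left ↘ An.SC)] {G : An.Cl.Ab (An.Pts X)} {q : ℕ}
    (x : HA ((An.eps X).obj U) G q) (a : An.Pts U.left)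
    (h : DiesTop (X := U.left) (loc1 ((An.eps X).obj U) x) a) : DiesAt x a := by
  obtain ⟨Z, iZ, f, hf, hfe, c, hc, hx⟩ := h
  have hx := (res_loc1_eq_zero_iff ((An.eps X).obj U) x (ob f)).1 hx
  have hU : Etale U.hom := U.prop
  let V : X.Etale := Scheme.Etale.mk (f ≫ U.hom)
  let k : V ⟶ U := MorphismProperty.Over.homMk f rfl trivial
  let i₁ : Z.Over An.SC := An.etaleOverLeft X V
  have h1 : f ≫ (U.hom ≫ (X ↘ An.SC)) = @CategoryTheory.over _ _ Z An.SC iZ := hf.comp_over
  have h2 : @CategoryTheory.over _ _ Z An.SC i₁ = @CategoryTheory.over _ _ Z An.SC iZ := by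
    rw [← h1]
    change (f ≫ U.hom) ≫ (X ↘ An.SC) = f ≫ (U.hom ≫ (X ↘ An.SC))
    rw [Category.assoc]
  let i : (An.eps X).obj V ⟶ (loc ((An.eps X).obj U)).obj (@ob _ U.left Z _ iZ _ f hf hfe) :=
    ⟨An.Pts.cast i₁ iZ h2, (An.Pts.cast i₁ iZ h2).continuous, fun z => Subtype.ext (by
      change (z.1 ≫ f) ≫ U.hom = z.1 ≫ (f ≫ U.hom)
      rw [Category.assoc])⟩
  refine ⟨V, k, An.Pts.cast iZ i₁ h2.symm c, ?_, ?_⟩
  · rw [← hc]
    exact Subtype.ext rfl
  · have h3 := res_zero_of_res _ i _ hx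
    have h4 : i ≫ (loc ((An.eps X).obj U)).map (toSelf (@ob _ U.left Z _ iZ _ f hf hfe)) ≫
        locSelf ((An.eps X).obj U) = (An.eps X).map k :=
      An.Cl.hom_ext (funext fun z => Subtype.ext rfl)
    exact (congrArg (fun k => res k x) h4).symm.trans h3

end schemes

end Groth.Agent.An.H888.Ob
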