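import Groth.Agent.An.H888.Collapse

/-!
# S4216 from S4213 and S4215 (conditional form)
-/

set_option autoImplicit false

open CategoryTheory CategoryTheory.Limits AlgebraicGeometry Opposite CategoryTheory.Abelian

namespace Groth.Agent.An.H888.S4216_of

/-- S4216 from (the statements of) S4213 and S4215. -/
theorem hcmp_bijective
    (h4213 : ∀ (X : Scheme.{0}) [X.Over An.SC] [LocallyOfFiniteType (X ↘ An.SC)]
      [Fact An.EtaleLH] [An.EpsCont X] [Smooth (X ↘ An.SC)]
      (F : EtCoh.Ab X) (_ : EtCoh.IsFiniteLocallyConstant F),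
      IsIso ((An.epsAdj X).unit.app F) ∧ An.Cl.IsFiniteLocallyConstant ((An.epsPull X).obj F))
    (h4215 : ∀ (X : Scheme.{0}) [X.Over An.SC] [LocallyOfFiniteType (X ↘ An.SC)]
      [Fact An.EtaleLH] [An.EpsCont X] [Smooth (X ↘ An.SC)]
      (G : An.Cl.Ab (An.Pts X)) (_ : An.Cl.IsFiniteLocallyConstant G) (q : ℕ) (_ : 0 < q),
      Limits.IsZero ((An.epsRpush X q).obj G))
    (X : Scheme.{0}) [X.Over An.SC] [LocallyOfFiniteType (X ↘ An.SC)]
    [Fact An.EtaleLH] [An.EpsCont X] [Smooth (X ↘ An.SC)]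
    [Limits.PreservesFiniteLimits (An.epsPull X)]
    (F : EtCoh.Ab X) (hF : EtCoh.IsFiniteLocallyConstant F) (q : ℕ) :
    Function.Bijective (An.Hcmp X F q) :=
  Collapse.hcmp_bijective_of_acyclic X F (h4213 X F hF).1
    (fun q hq => h4215 X _ (h4213 X F hF).2 q hq) q

end Groth.Agent.An.H888.S4216_of
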